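import Cfsg.Agent.Mrg.Omega.NO3S.TwoMid.NOm
import Cfsg.Agent.Mrg.Omega.NO3S.WZero.Exact
import Cfsg.Agent.Mrg.Omega.NO3S.TwoOne.Three
import Mathlib
import Cfsg.Agent.Mrg.Omega.NO3S.TypeN.ATwo

section


/-!
# W0 is dead (helper56 #21024), step (7) in the language of `Def.lean`

* `end_false'` : from `Fr`, `Can`, `One`, `Five`, `SZero`, `(p, q)` critical, `f ∈ N_q`, `f ∉ K_p`;
* `end_false` : from `Wz`.
-/

set_option autoImplicit false
set_option linter.unusedSectionVars false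

namespace Cfsg.Agent.Omega.NO3S.WZero

open Subgroup Cfsg Cfsg.Agent.ZN Cfsg.Agent.MinSimple.Geo Cfsg.Agent.Omega.CaseL Cfsg.Agent.Omega.NO3S.TwoOne
  Cfsg.Agent.Omega.NO3S.Pt Cfsg.Agent.Omega.NO3S.TwoMid.Alpha
open Cfsg.Agent.Omega.NO3S.Dual (nn mem_nn)

universe u

variable {G : Type u} [Group G] {T V : Subgroup G} {z p q f : G} {n : ℕ} {NV : G → Subgroup G → G → Prop}

theorem end_false' [Finite G] (hF : Fr T V z) (hn : 2 ≤ n) (hc : Can V NV) (h1 : One V NV n) (h5 : Five V NV n)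
    (hs : SZero V NV) (hcr : Cr V n p q) (hf : f ∈ nn (ws V q) (kq V q)) (hfk : f ∉ kq V p) : False := by
  obtain ⟨m, rfl⟩ := Nat.exists_eq_add_of_le' (le_trans one_le_two hn)
  obtain ⟨r, g, hpath, hr, hp, hr1, hp1, hrp, ho2⟩ := hcr.symm.last hF
  have hfW : f ∈ ws V q := (mem_nn.mp hf).1
  refine EndD.false (T := T) (V := V) (z := z) (nv := fun L x a => NV x L a) (g₀ := g) (p := p) (q := q) (r := r)
    (f := f) ?_
  exact
    { fr := hF
      pL := hp
      rL := hr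
      p1 := hp1
      r1 := hr1
      rp := hrp
      qq := hcr.path.right
      fW := hfW
      fo := hF.ws_le_o2_of_pth hcr.min m (by omega) q r hpath hfW
      fr0 := by
        rw [mem_centralizer_iff]
        intro b hb
        exact (hcr.min m (by omega) q r hpath f hfW b hb).symm
      fk := hfk
      mem := fun g x a ha => hc.mem ha
      ne := fun g x a ha => hc.nin ha
      ex := fun g x hx hx1 => hc.ex hx hx1
      uniq := fun g x a b ha hb => hc.uniq ha hb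
      conj := fun k g x a ha => hc.conj k ha
      one := fun x a hx hx1 ha => h1 g q r x a hr hr1 ⟨m, by omega, hpath⟩ hx hx1 ha f hfW
      five := fun g x a hpg hx hx1 hxp hxq ha => h5 p q f g x a hcr hf hpg hx hx1 hxp hxq ha
      six := fun g g' x x' a a' hp' hx hx1 hxp hp'' hx' hx'1 hx'p hxx hne hne' ha ha' =>
        hs p x x' g g' a a' hp' hx hp'' hx' hp1 hx1 hx'1 hxp hx'p hne hne' hxx ha ha' }

/-- **(7)** -/
theorem end_false [Finite G] (h : Wz T V z n) (hc : Can V NV) (h1 : One V NV n) (h5 : Five V NV n)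
    (hs : SZero V NV) (hcr : Cr V n p q) (hf : f ∈ nn (ws V q) (kq V q))
    (hfp : ∃ w ∈ ws V p, f * w ≠ w * f) : False := by
  refine end_false' h.fr h.two hc h1 h5 hs hcr hf ?_
  intro hk
  obtain ⟨w, hw, hne⟩ := hfp
  exact hne (h.kq_cent hcr (mem_nn.mp hf).1 hk w hw)

end Cfsg.Agent.Omega.NO3S.WZero

end

section


/-!
# The world W0: (T4) (helper975 #19384, in the form of #21024)

If `F = {λ}` for all flags (a point `y ∼ z` and a `C_G(z)`-conjugate of it are never congruent modulo `N_z` unless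
they are congruent modulo `⟨z⟩`), then `N_q` centralises `W_p` for all critical pairs `(p, q)`.

* `Wz.mover` : every `f ∈ W_p ∖ C(W_q)` moves a vector of `M~_λ = {w : [w, C_r] ≤ ⟨r⟩ N_q}` modulo `N_q`;
* `Wz.nn_le_ce` : counting (exactness of `(p, q)`): `N_q ≤ C(W_p)`;
* `Wz.tfour` : the form used in #21024.
-/

set_option autoImplicit false
set_option linter.unusedSectionVars false

namespace Cfsg.Agent.Omega.NO3S.WZero

open Subgroup Cfsg Cfsg.Agent.ZN Cfsg.Agent.MinSimple.Geo Cfsg.Agent.Omega.CaseL Cfsg.Agent.Omega.NO3S.TwoOne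
open Cfsg.Agent.Omega.NO3S.Pt
open Cfsg.Agent.Omega.NO3S.Dual (nn mem_nn DW mem_sup_of_comm)
open Cfsg.Agent.Omega.NO3S.TwoMid.Alpha (Iv exists_iv)
open Cfsg.Agent.ZN.Block (conj_mem_of_normalizer conj_mem_of_normalizer' le_normalizer_of_forall
  mem_normalizer_of)

universe u

variable {G : Type u} [Group G] {T V : Subgroup G} {z : G} {n : ℕ}

namespace TFour

theorem conj_mem_nn {q w : G} (g : G) (hw : w ∈ nn (ws V q) (kq V q)) :
    g * w * g⁻¹ ∈ nn (ws V (g * q * g⁻¹)) (kq V (g * q * g⁻¹)) := by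
  rw [mem_nn] at hw ⊢
  refine ⟨conj_mem_ws g hw.1, fun k hk => ?_⟩
  have h1 : g⁻¹ * k * g ∈ kq V q := by
    have := conj_mem_kq g⁻¹ hk
    have e : g⁻¹ * (g * q * g⁻¹) * g⁻¹⁻¹ = q := by group
    rwa [e, inv_inv] at this
  have h2 := hw.2 _ h1
  calc k * (g * w * g⁻¹) = g * (g⁻¹ * k * g * w) * g⁻¹ := by group
    _ = g * (w * (g⁻¹ * k * g)) * g⁻¹ := by rw [h2]
    _ = g * w * g⁻¹ * k := by group

theorem conj_mem_nn' {q w g : G} (hg : g * q = q * g) (hw : w ∈ nn (ws V q) (kq V q)) :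
    g * w * g⁻¹ ∈ nn (ws V q) (kq V q) := by
  have := conj_mem_nn g hw
  rwa [hg, mul_inv_cancel_right] at this

theorem mem_zp {q a : G} (hq : q * q = 1) (ha : a ∈ zpowers q) : a = 1 ∨ a = q :=
  (mem_zpowers_iff_of_mul_self hq).mp ha

/-- no point collinear with `q` is in `N_q` -/
theorem not_mem_nn (h : Fr T V z) {q y : G} (hy : Col V q y) (hne : y ≠ q) : y ∉ nn (ws V q) (kq V q) := by
  intro hn
  obtain ⟨g, hq, hy', hq1, hy1⟩ := hy
  obtain ⟨k, hk, -, hmv⟩ := h.mover_cj hq hq1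
  have h1 := hmv y hy' hy1 hne
  have h2 := (mem_nn.1 hn).2 k hk
  rw [h2, mul_inv_cancel_right] at h1
  exact hq1 (by simpa using h1.symm)

/-- transport of `F = {λ}` -/
theorem trF (h : Fr T V z)
    (nF : ¬ ∃ g ∈ centralizer ({z} : Set G), ∃ y ∈ V, y ∉ zpowers z ∧
      y * (g * y * g⁻¹) ∈ nn (ws V z) (kq V z) ∧ y * (g * y * g⁻¹) ∉ zpowers z) {q y c : G} (hy : Col V q y)
    (hne : y ≠ q) (hc : c * q = q * c) (hN : y * (c * y * c⁻¹) ∈ nn (ws V q) (kq V q)) :
    c * y * c⁻¹ = y ∨ c * y * c⁻¹ = q * y := by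
  obtain ⟨g, hq, hy', hq1, hy1⟩ := id hy
  obtain ⟨k, hk, hkz, -⟩ := h.flag hq hq1
  have hqq : q * q = 1 := h.pt_sq hy.left
  have hyy : y * y = 1 := h.pt_sq hy.right
  have hz : k⁻¹ * q * k = z := by rw [← hkz]; group
  have hyV : k⁻¹ * y * k ∈ V := by rw [← hk] at hy'; exact mem_cj.1 hy'
  have hN' := conj_mem_nn k⁻¹ hN
  rw [inv_inv, hz] at hN'
  have e : k⁻¹ * (y * (c * y * c⁻¹)) * k =
      k⁻¹ * y * k * ((k⁻¹ * c * k) * (k⁻¹ * y * k) * (k⁻¹ * c * k)⁻¹) := by group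
  rw [e] at hN'
  have hcz : k⁻¹ * c * k ∈ centralizer ({z} : Set G) := by
    rw [mem_centralizer_singleton_iff, ← hz]
    calc k⁻¹ * c * k * (k⁻¹ * q * k) = k⁻¹ * (c * q) * k := by group
      _ = k⁻¹ * (q * c) * k := by rw [hc]
      _ = k⁻¹ * q * k * (k⁻¹ * c * k) := by group
  have hzz : z * z = 1 := h.ln.zz
  have hyz : k⁻¹ * y * k ∉ zpowers z := by
    intro hm
    rcases mem_zp hzz hm with e1 | e1
    · apply hy1
      calc y = k * (k⁻¹ * y * k) * k⁻¹ := by group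
        _ = 1 := by rw [e1]; group
    · apply hne
      calc y = k * (k⁻¹ * y * k) * k⁻¹ := by group
        _ = q := by rw [e1, hkz]
  have h3 : k⁻¹ * y * k * ((k⁻¹ * c * k) * (k⁻¹ * y * k) * (k⁻¹ * c * k)⁻¹) ∈ zpowers z := by
    by_contra hcon
    exact nF ⟨_, hcz, _, hyV, hyz, hN', hcon⟩
  rw [← e] at h3
  have h4 : y * (c * y * c⁻¹) = 1 ∨ y * (c * y * c⁻¹) = q := by
    rcases mem_zp hzz h3 with e1 | e1
    · left
      calc y * (c * y * c⁻¹) = k * (k⁻¹ * (y * (c * y * c⁻¹)) * k) * k⁻¹ := by group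
        _ = 1 := by rw [e1]; group
    · right
      calc y * (c * y * c⁻¹) = k * (k⁻¹ * (y * (c * y * c⁻¹)) * k) * k⁻¹ := by group
        _ = q := by rw [e1, hkz]
  have h5 : c * y * c⁻¹ = y * (y * (c * y * c⁻¹)) := by rw [← mul_assoc, hyy, one_mul]
  rcases h4 with e1 | e1
  · left; rw [h5, e1, mul_one]
  · right; rw [h5, e1, h.col_comm hy]

/-- (LIFT) -/
theorem iv_eq_one [Finite G] {b f v r : G} (i : Iv b f v) (hbb : b * b = 1)
    (hfo : f ∈ o2 (centralizer ({r} : Set G))) (hr : v * r * v⁻¹ = r ∨ v * r * v⁻¹ = b * r) : v = 1 := by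
  have h2 : v * v * r = r * (v * v) := by
    rcases hr with e | e
    · have h3 := Dual.comm_of_conj_eq e
      rw [mul_assoc, h3, ← mul_assoc, h3, mul_assoc]
    · apply Dual.comm_of_conj_eq
      calc v * v * r * (v * v)⁻¹ = v * (v * r * v⁻¹) * v⁻¹ := by group
        _ = v * b * (r * v⁻¹) := by rw [e]; group
        _ = b * (v * r * v⁻¹) := by rw [i.cb]; group
        _ = r := by rw [e, ← mul_assoc, hbb, one_mul]
  have h4 : v * v * f * (v * v)⁻¹ * f⁻¹ ∈ o2 (centralizer ({r} : Set G)) :=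
    mul_mem (conj_mem_of_normalizer (le_normalizer_o2 _) (mem_centralizer_singleton_iff.mpr h2) hfo) (inv_mem hfo)
  have hi := i.symm.inv
  rw [inv_inv] at hi
  have h5 : v * v * f * (v * v)⁻¹ * f⁻¹ = v ^ 4 := by
    calc v * v * f * (v * v)⁻¹ * f⁻¹ = v * v * (f * v⁻¹ * f⁻¹) * (f * v⁻¹ * f⁻¹) := by group
      _ = v ^ 4 := by rw [hi, TwoMid.Alpha.pow_four']
  rw [h5] at h4
  obtain ⟨m, hm⟩ := isPGroup_o2 (centralizer ({r} : Set G)) ⟨v ^ 4, h4⟩
  have h6 : v ^ (4 * 2 ^ m) = 1 := by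
    rw [pow_mul]
    exact congrArg Subtype.val hm
  have h7 : orderOf v ∣ 4 * 2 ^ m := orderOf_dvd_of_pow_eq_one h6
  have h8 : Nat.Coprime (orderOf v) (4 * 2 ^ m) := by
    have : 4 * 2 ^ m = 2 ^ (m + 2) := by rw [pow_add]; ring
    rw [this]
    exact Nat.Coprime.pow_right _ (Nat.coprime_two_right.2 i.odd)
  exact orderOf_eq_one_iff.mp (Nat.eq_one_of_dvd_coprimes h8 dvd_rfl h7)

/-- an odd element lies in a subgroup if its fourth power does -/
theorem mem_of_pow_four {H : Subgroup G} {v : G} (ho : Odd (orderOf v)) (h4 : v ^ 4 ∈ H) : v ∈ H := by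
  have h8 : Nat.Coprime (orderOf v) 4 := by
    have : 4 = 2 ^ 2 := rfl
    rw [this]
    exact Nat.Coprime.pow_right _ (Nat.coprime_two_right.2 ho)
  have h1 : v ∈ zpowers (v ^ 4) := by
    rw [mem_zpowers_pow_iff]
    exact h8.symm
  exact (zpowers_le.2 h4) h1


section pair

variable {p q r : G}

theorem conj_mem_centralizer_ws {r : G} (v : G) {c : G} (hc : c ∈ centralizer (ws V r : Set G)) :
    v * c * v⁻¹ ∈ centralizer (ws V (v * r * v⁻¹) : Set G) := by
  rw [mem_centralizer_iff] at hc ⊢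
  intro a ha
  have h1 : v⁻¹ * a * v ∈ ws V r := by
    have := conj_mem_ws v⁻¹ ha
    have e : v⁻¹ * (v * r * v⁻¹) * v⁻¹⁻¹ = r := by group
    rwa [e, inv_inv] at this
  have h2 := hc _ h1
  calc a * (v * c * v⁻¹) = v * (v⁻¹ * a * v * c) * v⁻¹ := by group
    _ = v * (c * (v⁻¹ * a * v)) * v⁻¹ := by rw [h2]
    _ = v * c * v⁻¹ * a := by group

theorem inv_comm_of {a b : G} (h : a * b = b * a) : a⁻¹ * b = b * a⁻¹ := by
  rw [inv_mul_eq_iff_eq_mul, ← mul_assoc, h, mul_inv_cancel_right]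

/-- the mover -/
theorem mover [Finite G] (h : Wz T V z n)
    (nF : ¬ ∃ g ∈ centralizer ({z} : Set G), ∃ y ∈ V, y ∉ zpowers z ∧
      y * (g * y * g⁻¹) ∈ nn (ws V z) (kq V z) ∧ y * (g * y * g⁻¹) ∉ zpowers z)
    (hc : Cr V n q p) (hcol : Col V q r) (hrq : r ≠ q) (hr : Pth V (n - 1) r p) {f : G} (hf : f ∈ ws V p)
    (hfc : f ∉ ce V p q) :
    ∃ x ∈ ws V q, (∀ c ∈ centralizer (ws V r : Set G), c * x * c⁻¹ * x⁻¹ ∈ zpowers r ⊔ nn (ws V q) (kq V q)) ∧
      f * x * f⁻¹ * x⁻¹ ∉ nn (ws V q) (kq V q) := by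
  have hF := h.fr
  have hn2 := h.two
  have hqq : q * q = 1 := hF.pt_sq hcol.left
  have hrr : r * r = 1 := hF.pt_sq hcol.right
  have hfC : f ∈ centralizer ({q} : Set G) := h.le_cent hc.symm hf
  have hfq : f * q = q * f := mem_centralizer_singleton_iff.1 hfC
  have hff : f * f = 1 := hF.ws_sq hc.path.right f hf
  have hfk : f ∉ kq V q := fun hk => hfc (mem_ce.2 ⟨hf, fun b hb => h.kq_cent hc hf hk b hb⟩)
  have hcomr : Com V r p := hc.min (n - 1) (by omega) _ _ hr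
  have hfo : f ∈ o2 (centralizer ({r} : Set G)) :=
    hF.ws_le_o2_of_pth hc.min (n - 1) (by omega) _ _ hr.symm hf
  have hfr : f * r = r * f := (hcomr r (hF.mem_ws_self hcol.right) f hf).symm
  have hfW : f ∈ centralizer (ws V r : Set G) := mem_centralizer_iff.2 fun a ha => hcomr a ha f hf
  obtain ⟨v, i, hv1⟩ := exists_iv hF hcol.left hfq hff hfk
  have hvq : v * q * v⁻¹ = q := Dual.conj_eq_of_comm i.cb
  have hvq' : v⁻¹ * q * v = q := by
    calc v⁻¹ * q * v = v⁻¹ * (v * q * v⁻¹) * v := by rw [hvq]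
      _ = q := by group
  have hinv : f * v⁻¹ * f⁻¹ = v := by have := i.symm.inv; rwa [inv_inv] at this
  -- `x`, `x'`
  obtain ⟨x, hx⟩ : ∃ x, x = v * r * v⁻¹ := ⟨_, rfl⟩
  obtain ⟨x', hx'⟩ : ∃ x', x' = v⁻¹ * r * v := ⟨_, rfl⟩
  have hfx : f * x * f⁻¹ = x' := by
    rw [hx, hx']
    calc f * (v * r * v⁻¹) * f⁻¹ = (f * v * f⁻¹) * (f * r * f⁻¹) * (f * v⁻¹ * f⁻¹) := by group
      _ = v⁻¹ * r * v := by rw [i.inv, hinv, Dual.conj_eq_of_comm hfr]
  have hcx : Col V q x := by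
    have := hcol.conj v
    rwa [hvq, ← hx] at this
  have hcx' : Col V q x' := by
    have := hcol.conj v⁻¹
    rw [inv_inv, hvq', ← hx'] at this
    exact this
  have hxq : x ≠ q := by
    intro e
    apply hrq
    calc r = v⁻¹ * (v * r * v⁻¹) * v := by group
      _ = q := by rw [← hx, e, hvq']
  have hxq' : x' ≠ q := by
    intro e
    apply hrq
    calc r = v * (v⁻¹ * r * v) * v⁻¹ := by group
      _ = q := by rw [← hx', e, hvq]
  have one : ∀ {w : G}, Iv q f w → (w * r * w⁻¹ = r ∨ w * r * w⁻¹ = q * r) → w = 1 :=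
    fun i' => iv_eq_one i' hqq hfo
  have hv2 : v * v ≠ 1 := by
    intro e
    apply hv1
    have h1 : orderOf v ∣ 2 := orderOf_dvd_of_pow_eq_one (by rw [pow_two, e])
    have h2 : Nat.Coprime (orderOf v) 2 := Nat.coprime_two_right.2 i.odd
    exact orderOf_eq_one_iff.mp (Nat.eq_one_of_dvd_coprimes h2 dvd_rfl h1)
  set N := nn (ws V q) (kq V q) with hN
  have hW := hF.ws_comm hcol.left
  have hsq := hF.ws_sq hcol.left
  have hxw : x ∈ ws V q := hF.mem_ws_of_col hcx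
  have hxw' : x' ∈ ws V q := hF.mem_ws_of_col hcx'
  have hrw : r ∈ ws V q := hF.mem_ws_of_col hcol
  have hxx : x * x = 1 := hsq x hxw
  have hxx' : x' * x' = 1 := hsq x' hxw'
  -- (i) - (iii)
  have i1 : r * x ∉ N := by
    intro hm
    rw [hx] at hm
    exact hv1 (one i (trF hF nF hcol hrq i.cb hm))
  have i2 : r * x' ∉ N := by
    intro hm
    have e : x' = v⁻¹ * r * v⁻¹⁻¹ := by rw [hx', inv_inv]
    rw [e] at hm
    exact hv1 (inv_eq_one.1 (one i.symm (trF hF nF hcol hrq i.symm.cb hm)))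
  have i3 : x' * x ∉ N := by
    intro hm
    have h1 := conj_mem_nn' i.cb hm
    have e : v * (x' * x) * v⁻¹ = r * (v * v * r * (v * v)⁻¹) := by rw [hx, hx']; group
    rw [← hN, e] at h1
    have i' : Iv q f (v * v) := by have := i.pow 2; rwa [pow_two] at this
    exact hv2 (one i' (trF hF nF hcol hrq i'.cb h1))
  -- no (D)
  have hD : ¬ (ws V x ⊓ ws V x' ≤ ws V q) := by
    have h1 := h.noD q p r hc hcol hrq hr f v hf i.cb i.odd i.inv hv1
    rw [← hx, hfx] at h1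
    refine h1 ?_
    intro e
    apply i3
    rw [e, hxx]
    exact one_mem _
  have hG := (hF.lemD hcx hcx' hxq hxq').resolve_left hD
  set Gs := centralizer (ws V x : Set G) ⊔ centralizer (ws V x' : Set G) with hGs
  -- `v ∈ Gs`
  have c1 : v * f * v⁻¹ ∈ centralizer (ws V x : Set G) := by
    rw [hx]
    exact conj_mem_centralizer_ws v hfW
  have c2 : v⁻¹ * f * v ∈ centralizer (ws V x' : Set G) := by
    have := conj_mem_centralizer_ws v⁻¹ hfW
    rw [inv_inv] at this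
    rwa [hx']
  have hvG : v ∈ Gs := by
    refine mem_of_pow_four i.odd ?_
    have e1 : v * f * v⁻¹ = v * v * f := by
      calc v * f * v⁻¹ = v * (f * v⁻¹ * f⁻¹) * f := by group
        _ = v * v * f := by rw [hinv]
    have e2 : v⁻¹ * f * v = v⁻¹ * v⁻¹ * f := by
      calc v⁻¹ * f * v = v⁻¹ * (f * v * f⁻¹) * f := by group
        _ = v⁻¹ * v⁻¹ * f := by rw [i.inv]
    have e3 : v ^ 4 = (v * f * v⁻¹) * (v⁻¹ * f * v)⁻¹ := by
      rw [e1, e2, TwoMid.Alpha.pow_four', mul_inv_rev, mul_inv_rev, inv_inv]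
      calc v * v * v * v = v * v * (f * f⁻¹) * (v * v) := by group
        _ = v * v * f * (f⁻¹ * (v * v)) := by group
    rw [e3]
    exact mul_mem (mem_sup_left c1) (inv_mem (mem_sup_right c2))
  have hcG : ∀ c ∈ centralizer (ws V r : Set G), c ∈ Gs := by
    intro c hc'
    have h1 : v * c * v⁻¹ ∈ centralizer (ws V x : Set G) := by
      rw [hx]; exact conj_mem_centralizer_ws v hc'
    have h2 : c = v⁻¹ * (v * c * v⁻¹) * v := by group
    rw [h2]
    exact mul_mem (mul_mem (inv_mem hvG) (mem_sup_left h1)) hvG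
  -- elements of `P`
  have hP : ∀ y ∈ closure {x, x'} ⊔ N, y ∈ N ∨ x * y ∈ N ∨ x' * y ∈ N ∨ x * x' * y ∈ N := by
    intro y hy
    have hle : closure {x, x'} ≤ ws V q := by
      rw [closure_le]
      rintro a (rfl | rfl)
      · exact hxw
      · exact hxw'
    obtain ⟨s, hs, t, ht, rfl⟩ := mem_sup_of_comm hW hle inf_le_left hy
    have h4 : s = 1 ∨ s = x ∨ s = x' ∨ s = x * x' := by
      have h5 : closure ({x, x'} : Set G) ≤ zpowers x ⊔ zpowers x' := by
        rw [closure_le]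
        rintro a (rfl | rfl)
        · exact mem_sup_left (mem_zpowers _)
        · exact mem_sup_right (mem_zpowers _)
      obtain ⟨a, ha, b, hb, rfl⟩ := mem_sup_of_comm hW (zpowers_le.2 hxw) (zpowers_le.2 hxw') (h5 hs)
      rcases mem_zp hxx ha with rfl | rfl <;> rcases mem_zp hxx' hb with rfl | rfl <;> simp
    have ht' := ht
    rcases h4 with rfl | rfl | rfl | rfl
    · left; rwa [one_mul]
    · right; left; rw [← mul_assoc, hxx, one_mul]; exact ht
    · right; right; left; rw [← mul_assoc, hxx', one_mul]; exact ht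
    · right; right; right
      rw [← mul_assoc, hsq _ (mul_mem hxw hxw'), one_mul]; exact ht
  have hxN : x ∉ N := not_mem_nn hF hcx hxq
  -- (iv)
  have i4 : x * x' * r ∈ N := by
    have h1 := (hG v⁻¹ (inv_mem hvG)).1
    have e : v⁻¹ * x * v⁻¹⁻¹ = r := by rw [hx]; group
    rw [e] at h1
    rcases hP r h1 with h2 | h2 | h2 | h2
    · exact absurd h2 (not_mem_nn hF hcol hrq)
    · rw [hW x hxw r hrw] at h2; exact absurd h2 i1
    · rw [hW x' hxw' r hrw] at h2; exact absurd h2 i2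
    · exact h2
  refine ⟨x, hxw, fun c hc' => ?_, ?_⟩
  · have hcr : c * r * c⁻¹ = r :=
      Dual.conj_eq_of_comm (mem_centralizer_iff.1 hc' r (hF.mem_ws_self hcol.right)).symm
    have hcq : c * q = q * c := (mem_centralizer_iff.1 hc' q (hF.mem_ws_of_col hcol.symm)).symm
    have hyw : c * x * c⁻¹ ∈ ws V q := by
      have := conj_mem_ws c hxw
      rwa [hcq, mul_inv_cancel_right] at this
    have hxi : x⁻¹ = x := inv_eq_of_mul_eq_one_left hxx
    rw [hxi]
    have h1 := (hG c (hcG c hc')).1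
    rcases hP _ h1 with h2 | h2 | h2 | h2
    · exfalso
      apply hxN
      have h3 := conj_mem_nn' (inv_comm_of hcq) h2
      have e : c⁻¹ * (c * x * c⁻¹) * c⁻¹⁻¹ = x := by group
      rwa [e] at h3
    · rw [hW _ hyw _ hxw]; exact mem_sup_right h2
    · have e : c * x * c⁻¹ * x = r * ((x * x' * r) * (x' * (c * x * c⁻¹)) * (x * x)) := by
        have a1 := hW x' hxw' r hrw
        have a2 := hW x hxw r hrw
        generalize hy : c * x * c⁻¹ = y at hyw
        have a4 := hW x hxw y hyw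
        calc y * x = x * y := a4.symm
          _ = x * (r * r) * (x' * x') * y := by rw [hrr, hxx', mul_one, mul_one]
          _ = (x * r) * (r * x') * x' * y := by group
          _ = (r * x) * (x' * r) * x' * y := by rw [a2, a1]
          _ = r * ((x * x' * r) * (x' * y) * 1) := by group
          _ = r * ((x * x' * r) * (x' * y) * (x * x)) := by rw [hxx]
      rw [e, hxx, mul_one]
      exact mul_mem (mem_sup_left (mem_zpowers r)) (mem_sup_right (mul_mem i4 h2))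
    · exfalso
      apply i1
      have h3 : r * (c * x * c⁻¹) ∈ N := by
        have e : r * (c * x * c⁻¹) = (x * x' * r) * (x * x' * (c * x * c⁻¹)) := by
          have a1 := hW (x * x') (mul_mem hxw hxw') r hrw
          have a2 := hsq (x * x') (mul_mem hxw hxw')
          rw [a1]
          generalize c * x * c⁻¹ = y
          calc r * y = r * (x * x' * (x * x')) * y := by rw [a2, mul_one]
            _ = r * (x * x') * (x * x' * y) := by group
        rw [e]
        exact mul_mem i4 h2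
      have h4 := conj_mem_nn' (inv_comm_of hcq) h3
      have e : c⁻¹ * (r * (c * x * c⁻¹)) * c⁻¹⁻¹ = r * x := by
        have : c⁻¹ * r * c = r := by
          calc c⁻¹ * r * c = c⁻¹ * (c * r * c⁻¹) * c := by rw [hcr]
            _ = r := by group
        calc c⁻¹ * (r * (c * x * c⁻¹)) * c⁻¹⁻¹ = (c⁻¹ * r * c) * x := by group
          _ = r * x := by rw [this]
      rwa [e] at h4
  · rw [hfx, inv_eq_of_mul_eq_one_left hxx]
    exact i3

open Classical in
theorem chi_mul {W N : Subgroup G} (hW : ∀ a ∈ W, ∀ b ∈ W, a * b = b * a) (hrW : r ∈ W) (hrr : r * r = 1)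
    {t t' : G} (htW : t ∈ W) (ht : t ∈ N ∨ r * t ∈ N) (ht' : t' ∈ N ∨ r * t' ∈ N) :
    (if t * t' ∈ N then (1 : ℤˣ) else -1) = (if t ∈ N then 1 else -1) * (if t' ∈ N then 1 else -1) := by
  by_cases h1 : t ∈ N
  · rw [if_pos h1, one_mul]
    by_cases h2 : t' ∈ N
    · rw [if_pos h2, if_pos (mul_mem h1 h2)]
    · rw [if_neg h2, if_neg fun h3 => h2 ((N.mul_mem_cancel_left h1).1 h3)]
  · rw [if_neg h1]
    by_cases h2 : t' ∈ N
    · rw [if_pos h2, if_neg fun h3 => h1 ((N.mul_mem_cancel_right h2).1 h3), mul_one]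
    · rw [if_neg h2]
      have h3 : t * t' ∈ N := by
        have h4 := mul_mem (ht.resolve_left h1) (ht'.resolve_left h2)
        have e : r * t * (r * t') = t * t' := by
          calc r * t * (r * t') = r * (t * r) * t' := by group
            _ = r * (r * t) * t' := by rw [hW t htW r hrW]
            _ = (r * r) * (t * t') := by group
            _ = t * t' := by rw [hrr, one_mul]
        rwa [e] at h4
      rw [if_pos h3]; simp

/-- `{w ∈ W : [w, C] ≤ R}` -/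
def dd (W R C : Subgroup G) (hW : ∀ a ∈ W, ∀ b ∈ W, a * b = b * a) (hsq : ∀ a ∈ W, a * a = 1)
    (hC : ∀ c ∈ C, ∀ w ∈ W, c * w * c⁻¹ ∈ W) : Subgroup G where
  carrier := {w | w ∈ W ∧ ∀ c ∈ C, c * w * c⁻¹ * w⁻¹ ∈ R}
  one_mem' := ⟨one_mem _, fun a _ => by simp⟩
  mul_mem' := by
    rintro w w' ⟨hw, h1⟩ ⟨hw', h2⟩
    refine ⟨mul_mem hw hw', fun c hc => ?_⟩
    have e : c * (w * w') * c⁻¹ * (w * w')⁻¹ = (c * w * c⁻¹ * w⁻¹) * (c * w' * c⁻¹ * w'⁻¹) := by
      have h3 : c * w' * c⁻¹ * w'⁻¹ ∈ W := mul_mem (hC c hc w' hw') (inv_mem hw')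
      have h4 := hW _ h3 w⁻¹ (inv_mem hw)
      calc c * (w * w') * c⁻¹ * (w * w')⁻¹ = (c * w * c⁻¹) * (c * w' * c⁻¹ * w'⁻¹ * w⁻¹) := by group
        _ = (c * w * c⁻¹) * (w⁻¹ * (c * w' * c⁻¹ * w'⁻¹)) := by rw [h4]
        _ = (c * w * c⁻¹ * w⁻¹) * (c * w' * c⁻¹ * w'⁻¹) := by group
    rw [e]
    exact mul_mem (h1 c hc) (h2 c hc)
  inv_mem' := by
    rintro w ⟨hw, h1⟩
    have : w⁻¹ = w := inv_eq_of_mul_eq_one_left (hsq w hw)
    rw [this]
    exact ⟨hw, h1⟩

theorem mem_dd {W R C : Subgroup G} {hW : ∀ a ∈ W, ∀ b ∈ W, a * b = b * a} {hsq : ∀ a ∈ W, a * a = 1}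
    {hC : ∀ c ∈ C, ∀ w ∈ W, c * w * c⁻¹ ∈ W} {w : G} :
    w ∈ dd W R C hW hsq hC ↔ w ∈ W ∧ ∀ c ∈ C, c * w * c⁻¹ * w⁻¹ ∈ R := Iff.rfl

/-- the count -/
theorem nn_le_ce [Finite G] (h : Wz T V z n)
    (nF : ¬ ∃ g ∈ centralizer ({z} : Set G), ∃ y ∈ V, y ∉ zpowers z ∧
      y * (g * y * g⁻¹) ∈ nn (ws V z) (kq V z) ∧ y * (g * y * g⁻¹) ∉ zpowers z)
    (hc : Cr V n q p) : nn (ws V q) (kq V q) ≤ ce V q p := by
  classical
  have hF := h.fr
  obtain ⟨r, hcol, hrq, hr⟩ : ∃ r, Col V q r ∧ r ≠ q ∧ Pth V (n - 1) r p := by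
    obtain ⟨m, rfl⟩ := Nat.exists_eq_add_of_le' (le_trans one_le_two h.two)
    obtain ⟨y', g, h1, h2, h3, h4, h5, h6, -⟩ := hc.symm.last hF
    exact ⟨y', Col.of_mem h3 h2 h5 h4, h6, h1.symm⟩
  have hn2 := h.two
  have hW := hF.ws_comm hcol.left
  have hsq := hF.ws_sq hcol.left
  have hrr : r * r = 1 := hF.pt_sq hcol.right
  have hrw : r ∈ ws V q := hF.mem_ws_of_col hcol
  have hcomr : Com V r p := hc.min (n - 1) (by omega) _ _ hr
  set N := nn (ws V q) (kq V q) with hN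
  have hNW : N ≤ ws V q := inf_le_left
  have hRW : zpowers r ⊔ N ≤ ws V q := sup_le (zpowers_le.2 hrw) hNW
  have hCq : ∀ c ∈ centralizer (ws V r : Set G), c * q = q * c := fun c hc' =>
    (mem_centralizer_iff.1 hc' q (hF.mem_ws_of_col hcol.symm)).symm
  have hCr : ∀ c ∈ centralizer (ws V r : Set G), c * r = r * c := fun c hc' =>
    (mem_centralizer_iff.1 hc' r (hF.mem_ws_self hcol.right)).symm
  have hC : ∀ c ∈ centralizer (ws V r : Set G), ∀ w ∈ ws V q, c * w * c⁻¹ ∈ ws V q := by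
    intro c hc' w hw
    have := conj_mem_ws c hw
    rwa [hCq c hc', mul_inv_cancel_right] at this
  set D := dd (ws V q) (zpowers r ⊔ N) (centralizer (ws V r : Set G)) hW hsq hC with hD
  have hA : ∀ a ∈ ws V p, a ∈ centralizer (ws V r : Set G) := fun a ha =>
    mem_centralizer_iff.2 fun b hb => hcomr b hb a ha
  have hR : ∀ t ∈ zpowers r ⊔ N, t ∈ N ∨ r * t ∈ N := by
    intro t ht
    obtain ⟨a, ha, b, hb, rfl⟩ := mem_sup_of_comm hW (zpowers_le.2 hrw) hNW ht
    rcases mem_zp hrr ha with rfl | rfl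
    · left; rwa [one_mul]
    · right; rwa [← mul_assoc, hrr, one_mul]
  have hcm : ∀ a ∈ ws V p, ∀ w ∈ D, a * w * a⁻¹ * w⁻¹ ∈ ws V q ∧
      (a * w * a⁻¹ * w⁻¹ ∈ N ∨ r * (a * w * a⁻¹ * w⁻¹) ∈ N) := by
    intro a ha w hw
    have h1 := (mem_dd.1 hw).2 a (hA a ha)
    exact ⟨hRW h1, hR _ h1⟩
  let s : ↥(ws V p) → ↥D → ℤˣ := fun a w => if (a : G) * w * (a : G)⁻¹ * (w : G)⁻¹ ∈ N then 1 else -1
  have hs : ∀ a w, s a w = 1 ↔ (a : G) * w * (a : G)⁻¹ * (w : G)⁻¹ ∈ N := by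
    intro a w
    change (if _ then (1 : ℤˣ) else -1) = 1 ↔ _
    split_ifs with h1
    · simp [h1]
    · simp [h1]
  have hcount := pairing_units s (by
      intro a a' w
      change (if _ then (1 : ℤˣ) else -1) = (if _ then 1 else -1) * (if _ then 1 else -1)
      have h1 := hcm a a.2 w w.2
      have h2 := hcm a' a'.2 w w.2
      obtain ⟨t, ht⟩ : ∃ t, t = (a' : G) * w * (a' : G)⁻¹ * (w : G)⁻¹ := ⟨_, rfl⟩
      rw [← ht] at h2 ⊢
      have e : ((a * a' : ↥(ws V p)) : G) * w * ((a * a' : ↥(ws V p)) : G)⁻¹ * (w : G)⁻¹ =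
          ((a : G) * w * (a : G)⁻¹ * (w : G)⁻¹) * (a * t * (a : G)⁻¹) := by
        have h4 : (a : G) * t * (a : G)⁻¹ ∈ ws V q := hC a (hA a a.2) t h2.1
        rw [hW _ h1.1 _ h4, ht, Subgroup.coe_mul]
        group
      have hconj : ∀ x ∈ N, (a : G) * x * (a : G)⁻¹ ∈ N := fun x hx =>
        conj_mem_nn' (hCq _ (hA a a.2)) hx
      have hconj' : ∀ x, (a : G) * x * (a : G)⁻¹ ∈ N ↔ x ∈ N := by
        intro x
        refine ⟨fun hx => ?_, hconj x⟩
        have := conj_mem_nn' (inv_comm_of (hCq _ (hA a a.2))) hx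
        have e1 : (a : G)⁻¹ * (a * x * (a : G)⁻¹) * (a : G)⁻¹⁻¹ = x := by group
        rwa [e1] at this
      have h5 : (a : G) * t * (a : G)⁻¹ ∈ N ∨ r * ((a : G) * t * (a : G)⁻¹) ∈ N := by
        rcases h2.2 with h6 | h6
        · left; exact hconj t h6
        · right
          have e1 : r * ((a : G) * t * (a : G)⁻¹) = a * (r * t) * (a : G)⁻¹ := by
            calc r * ((a : G) * t * (a : G)⁻¹) = (r * a) * t * (a : G)⁻¹ := by group
              _ = (a * r) * t * (a : G)⁻¹ := by rw [hCr _ (hA a a.2)]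
              _ = a * (r * t) * (a : G)⁻¹ := by group
          rw [e1]
          exact hconj _ h6
      rw [e, chi_mul hW hrw hrr h1.1 h1.2 h5]
      simp only [hconj']) (by
      intro a w w'
      change (if _ then (1 : ℤˣ) else -1) = (if _ then 1 else -1) * (if _ then 1 else -1)
      have h1 := hcm a a.2 w w.2
      have h2 := hcm a a.2 w' w'.2
      have e : (a : G) * ((w * w' : ↥D) : G) * (a : G)⁻¹ * ((w * w' : ↥D) : G)⁻¹ =
          ((a : G) * w * (a : G)⁻¹ * (w : G)⁻¹) * ((a : G) * w' * (a : G)⁻¹ * (w' : G)⁻¹) := by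
        have h4 := hW _ h2.1 (w : G)⁻¹ (inv_mem (mem_dd.1 w.2).1)
        rw [Subgroup.coe_mul]
        calc (a : G) * (w * w') * (a : G)⁻¹ * ((w : G) * w')⁻¹ =
            (a * w * (a : G)⁻¹) * ((a : G) * w' * (a : G)⁻¹ * (w' : G)⁻¹ * (w : G)⁻¹) := by group
          _ = (a * w * (a : G)⁻¹) * ((w : G)⁻¹ * ((a : G) * w' * (a : G)⁻¹ * (w' : G)⁻¹)) := by rw [h4]
          _ = _ := by group
      rw [e, chi_mul hW hrw hrr h1.1 h1.2 h2.2])
  -- the left side
  have hle : Nat.card {a : ↥(ws V p) // ∀ b, s a b = 1} ≤ Nat.card (ce V p q) := by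
    refine Nat.card_le_card_of_injective (fun a => ⟨(a.1 : G), ?_⟩) ?_
    · by_contra hcon
      obtain ⟨x, hx, h1, h2⟩ := mover h nF hc hcol hrq hr a.1.2 hcon
      exact h2 ((hs a.1 ⟨x, mem_dd.2 ⟨hx, h1⟩⟩).1 (a.2 _))
    · intro a a' e
      exact Subtype.ext (Subtype.ext (congrArg (fun x : ↥(ce V p q) => (x : G)) e))
  let S0 : Set G := {w | w ∈ D ∧ ∀ a ∈ ws V p, a * w * a⁻¹ * w⁻¹ ∈ N}
  have hS0 : Nat.card {b : ↥D // ∀ a, s a b = 1} = S0.ncard := by
    rw [← Nat.card_coe_set_eq]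
    refine Nat.card_congr ⟨fun b => ⟨b.1.1, b.1.2, fun a ha => (hs ⟨a, ha⟩ b.1).1 (b.2 ⟨a, ha⟩)⟩,
      fun b => ⟨⟨b.1, b.2.1⟩, fun a => (hs a _).2 (b.2.2 a a.2)⟩, fun _ => rfl, fun _ => rfl⟩
  have hex := h.exact hc
  set rho := (ce V p q).relIndex (ws V p) with hrho
  have hWp : Nat.card (ce V p q) * rho = Nat.card (ws V p) :=
    Dual.card_mul_relIndex_of_le inf_le_left
  have hDW : D ≤ ws V q := fun w hw => (mem_dd.1 hw).1
  have hDc : Nat.card (D ⊓ ce V q p : Subgroup G) * (D ⊓ ce V q p).relIndex D = Nat.card D :=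
    Dual.card_mul_relIndex_of_le inf_le_left
  have hri : (D ⊓ ce V q p).relIndex D ≤ rho := by
    rw [inf_relIndex_left, hex]
    exact relIndex_le_of_le_right hDW index_ne_zero_of_finite
  have hcard : S0.ncard ≤ Nat.card (D ⊓ ce V q p : Subgroup G) := by
    rw [hS0] at hcount
    have hpos : 0 < Nat.card (ce V p q) * rho := by rw [hWp]; exact Nat.card_pos
    refine Nat.le_of_mul_le_mul_left ?_ hpos
    calc Nat.card (ce V p q) * rho * S0.ncard = Nat.card {a : ↥(ws V p) // ∀ b, s a b = 1} * Nat.card D := by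
          rw [hWp, hcount]
      _ ≤ Nat.card (ce V p q) * (Nat.card (D ⊓ ce V q p : Subgroup G) * rho) := by
          refine Nat.mul_le_mul hle ?_
          rw [← hDc]
          exact Nat.mul_le_mul_left _ hri
      _ = Nat.card (ce V p q) * rho * Nat.card (D ⊓ ce V q p : Subgroup G) := by ring
  have hsub : ((D ⊓ ce V q p : Subgroup G) : Set G) ⊆ S0 := by
    intro w hw
    refine ⟨hw.1, fun a ha => ?_⟩
    have h1 := (mem_ce.1 hw.2).2 a ha
    rw [← h1, mul_inv_cancel_right, mul_inv_cancel]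
    exact one_mem _
  have heq : ((D ⊓ ce V q p : Subgroup G) : Set G) = S0 :=
    Set.eq_of_subset_of_ncard_le hsub (by
      rw [← Nat.card_coe_set_eq ((D ⊓ ce V q p : Subgroup G) : Set G)]; exact hcard) (Set.toFinite _)
  intro w hw
  have h1 : w ∈ S0 := by
    refine ⟨mem_dd.2 ⟨hNW hw, fun c hc' => mem_sup_right ?_⟩, fun a ha => ?_⟩
    · exact mul_mem (conj_mem_nn' (hCq c hc') hw) (inv_mem hw)
    · exact mul_mem (conj_mem_nn' (hCq a (hA a ha)) hw) (inv_mem hw)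
  rw [← heq] at h1
  exact h1.2

end pair

end TFour

/-- **(T4)** of #21024 -/
theorem Wz.tfour [Finite G] (h : Wz T V z n) {p q f : G} (hc : Cr V n p q)
    (hf : f ∈ nn (ws V q) (kq V q)) (hw : ∃ w ∈ ws V p, f * w ≠ w * f) :
    ∃ g ∈ centralizer ({z} : Set G), ∃ y ∈ V, y ∉ zpowers z ∧
      y * (g * y * g⁻¹) ∈ nn (ws V z) (kq V z) ∧ y * (g * y * g⁻¹) ∉ zpowers z := by
  by_contra nF
  obtain ⟨w, hw, hne⟩ := hw
  exact hne ((mem_ce.1 (TFour.nn_le_ce h nF hc.symm hf)).2 w hw)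

end Cfsg.Agent.Omega.NO3S.WZero

end

section


/-!
# W0, case (N1) (helper511 #19388, helper315 #19437): the module part

`H` acts on the `F₂`-module `M`, `P ≤ N ≤ M` submodules, `L ⊴ H` centralises `N`, `Λ` a conjugacy class of vectors outside `N`,
whose elements are fixed modulo `P` by a Sylow 2-subgroup of `L`.

* `Sy.ul` (UL) : `y ∈ L`, `v ∈ Λ`, `y v ∈ v + N` imply `y v ∈ v + P`;
* `th L N v` : the functionals of the elements of `L` acting on `M / N` as transvections with centre `v`;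
  `Jo L N v w` : joined; `Sy.jo_symm`;
* `Sy.tr` (TR) : the stabiliser of `v + N` in `L` is transitive on the vectors (modulo `N`) joined to `v`;
* `Sy.nu_const`, `Sy.fix_three`, `Sy.tp_end`.
-/

set_option autoImplicit false
set_option linter.unusedSectionVars false

namespace Cfsg.Agent.Omega.NO3S.WZero.NOne

open Module

variable {H M : Type*} [Group H] [AddCommGroup M] [Module (ZMod 2) M] [DistribMulAction H M]

theorem zcases (a : ZMod 2) : a = 0 ∨ a = 1 := by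
  revert a; decide

theorem add_self' (v : M) : v + v = 0 := by
  have h : ((1 : ZMod 2) + 1) • v = 0 := by
    rw [show (1 : ZMod 2) + 1 = 0 by decide, zero_smul]
  rwa [add_smul, one_smul] at h

theorem neg_self' (v : M) : -v = v := by
  rw [neg_eq_iff_add_eq_zero]; exact add_self' v

theorem sub_eq' (v w : M) : v - w = v + w := by rw [sub_eq_add_neg, neg_self']

theorem smul_zsmul (h : H) (a : ZMod 2) (v : M) : h • (a • v) = a • (h • v) := by
  rcases zcases a with rfl | rfl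
  · rw [zero_smul, zero_smul, smul_zero]
  · rw [one_smul, one_smul]

theorem zmem {N : AddSubgroup M} (a : ZMod 2) {v : M} (hv : v ∈ N) : a • v ∈ N := by
  rcases zcases a with rfl | rfl
  · rw [zero_smul]; exact zero_mem _
  · rwa [one_smul]

/-- the situation -/
structure Sy (L : Subgroup H) (N P : AddSubgroup M) (Λ : Set M) : Prop where
  Ln : ∀ h : H, ∀ y ∈ L, h * y * h⁻¹ ∈ L
  LN : ∀ y ∈ L, ∀ n ∈ N, y • n = n
  HN : ∀ (h : H), ∀ n ∈ N, h • n ∈ N
  HP : ∀ (h : H), ∀ n ∈ P, h • n ∈ P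
  PN : P ≤ N
  HL : ∀ (h : H), ∀ v ∈ Λ, h • v ∈ Λ
  trans : ∀ v ∈ Λ, ∀ w ∈ Λ, ∃ h : H, h • v = w
  LaN : ∀ v ∈ Λ, v ∉ N
  syl : ∀ v ∈ Λ, ∃ S : Subgroup H, S ≤ L ∧ ¬ 2 ∣ S.relIndex L ∧ ∀ s ∈ S, s • v - v ∈ P

/-- the elements of `L` fixing `v` modulo `K` -/
def st (L : Subgroup H) (K : AddSubgroup M) (hK : ∀ y ∈ L, ∀ n ∈ K, y • n ∈ K) (v : M) : Subgroup H where
  carrier := {y | y ∈ L ∧ y • v - v ∈ K}
  one_mem' := ⟨one_mem _, by rw [one_smul, sub_self]; exact zero_mem _⟩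
  mul_mem' := by
    rintro a b ⟨ha, ha1⟩ ⟨hb, hb1⟩
    refine ⟨mul_mem ha hb, ?_⟩
    have e : (a * b) • v - v = a • (b • v - v) + (a • v - v) := by
      rw [mul_smul, smul_sub]; abel
    rw [e]
    exact add_mem (hK a ha _ hb1) ha1
  inv_mem' := by
    rintro a ⟨ha, ha1⟩
    refine ⟨inv_mem ha, ?_⟩
    have e : a⁻¹ • v - v = -(a⁻¹ • (a • v - v)) := by
      rw [smul_sub, inv_smul_smul]; abel
    rw [e]
    exact neg_mem (hK a⁻¹ (inv_mem ha) _ ha1)

/-- `t` acts on `M / N` as the transvection with functional `φ` and centre `v` -/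
def Tv (N : AddSubgroup M) (t : H) (φ : Dual (ZMod 2) M) (v : M) : Prop := ∀ m, ∃ n ∈ N, t • m = m + φ m • v + n

/-- the functionals of the elements of `L` acting on `M / N` as transvections with centre `v` -/
def th (L : Subgroup H) (N : AddSubgroup M) (v : M) : Set (Dual (ZMod 2) M) := {φ | ∃ t ∈ L, Tv N t φ v}

/-- joined -/
def Jo (L : Subgroup H) (N : AddSubgroup M) (v w : M) : Prop := ∃ φ ∈ th L N v, φ w = 1

namespace Sy

variable {L : Subgroup H} {N P : AddSubgroup M} {Λ : Set M} (h : Sy L N P Λ)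
include h

theorem lp {y : H} (hy : y ∈ L) {n : M} (hn : n ∈ P) : y • n = n := h.LN y hy n (h.PN hn)

theorem LN' : ∀ y ∈ L, ∀ n ∈ N, y • n ∈ N := fun y hy n hn => by rw [h.LN y hy n hn]; exact hn

theorem LP' : ∀ y ∈ L, ∀ n ∈ P, y • n ∈ P := fun y hy n hn => by rw [h.lp hy hn]; exact hn

/-- (UL) -/
theorem ul [Finite H] {v : M} (hv : v ∈ Λ) {y : H} (hy : y ∈ L) (hyv : y • v - v ∈ N) : y • v - v ∈ P := by
  obtain ⟨S, hSL, hS2, hS⟩ := h.syl v hv
  set S0 := st L N h.LN' v with hS0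
  set S1 := st L P h.LP' v with hS1
  have h10 : S1 ≤ S0 := fun a ha => ⟨ha.1, h.PN ha.2⟩
  have hS1' : S ≤ S1 := fun a ha => ⟨hSL ha, hS a ha⟩
  have h0L : S0 ≤ L := fun a ha => ha.1
  have hodd : ¬ 2 ∣ S1.relIndex S0 := by
    intro hd
    apply hS2
    rw [← Subgroup.relIndex_mul_relIndex S S0 L (hS1'.trans h10) h0L,
      ← Subgroup.relIndex_mul_relIndex S S1 S0 hS1' h10]
    exact (hd.mul_left _).mul_right _
  have hnorm : (S1.subgroupOf S0).Normal := by
    refine ⟨fun s hs g => ?_⟩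
    rw [Subgroup.mem_subgroupOf] at hs ⊢
    refine ⟨mul_mem (mul_mem g.2.1 hs.1) (inv_mem g.2.1), ?_⟩
    -- `δ(g s g⁻¹) = δ(s)`
    have hg := g.2.2
    have hgi := (inv_mem g.2 : (g : H)⁻¹ ∈ S0).2
    have e1 : (g : H)⁻¹ • v = v + ((g : H)⁻¹ • v - v) := by abel
    have e2 : (s : H) • ((g : H)⁻¹ • v) = (s : H) • v + ((g : H)⁻¹ • v - v) := by
      conv_lhs => rw [e1]
      rw [smul_add, h.LN s hs.1 _ hgi]
    have e3 : ((g * s * g⁻¹ : S0) : H) • v - v = (g : H) • ((s : H) • v - v) := by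
      have : ((g * s * g⁻¹ : S0) : H) = g * s * (g : H)⁻¹ := rfl
      rw [this, mul_smul, mul_smul, e2, smul_add, smul_sub, smul_inv_smul, smul_sub]
      abel
    rw [e3]
    exact h.LP' _ g.2.1 _ hs.2
  have hy0 : y ∈ S0 := ⟨hy, hyv⟩
  have hp := (S1.subgroupOf S0).pow_index_mem (⟨y, hy0⟩ : S0)
  rw [Subgroup.mem_subgroupOf] at hp
  change y ^ (S1.relIndex S0) ∈ S1 at hp
  have hsq : y * y ∈ S1 := by
    refine ⟨mul_mem hy hy, ?_⟩
    have e : (y * y) • v - v = y • (y • v - v) + (y • v - v) := by rw [mul_smul, smul_sub]; abel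
    rw [e, h.LN y hy _ hyv, add_self']
    exact zero_mem _
  obtain ⟨k, hk⟩ : ∃ k, S1.relIndex S0 = 2 * k + 1 := by
    rcases Nat.even_or_odd (S1.relIndex S0) with he | ho
    · exact absurd he.two_dvd hodd
    · exact ho
  rw [hk, pow_succ, pow_mul, pow_two] at hp
  have := S1.mul_mem (S1.inv_mem (S1.pow_mem hsq k)) hp
  rw [inv_mul_cancel_left] at this
  exact this.2

/-! ### the functionals -/

theorem th_N {v : M} (hv : v ∈ Λ) {φ : Dual (ZMod 2) M} (hφ : φ ∈ th L N v) {n : M} (hn : n ∈ N) : φ n = 0 := by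
  obtain ⟨t, ht, h1⟩ := hφ
  obtain ⟨n', hn', h2⟩ := h1 n
  rw [h.LN t ht n hn] at h2
  rcases zcases (φ n) with e | e
  · exact e
  · rw [e, one_smul, add_assoc, left_eq_add] at h2
    have h3 : v = -n' := eq_neg_of_add_eq_zero_left h2
    exact absurd (by rw [h3]; exact neg_mem hn') (h.LaN v hv)

theorem th_self {v : M} (hv : v ∈ Λ) {φ : Dual (ZMod 2) M} (hφ : φ ∈ th L N v) : φ v = 0 := by
  obtain ⟨t, ht, h1⟩ := hφ
  obtain ⟨n', hn', h2⟩ := h1 v
  rcases zcases (φ v) with e | e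
  · exact e
  · rw [e, one_smul, add_self', zero_add] at h2
    have h3 := h.LN' t⁻¹ (inv_mem ht) _ hn'
    rw [← h2, inv_smul_smul] at h3
    exact absurd h3 (h.LaN v hv)

theorem tv_mul {v : M} {φ ψ : Dual (ZMod 2) M} {t s : H} (ht : t ∈ L) (hφ : Tv N t φ v) (hφv : φ v = 0)
    (hψ : Tv N s ψ v) : Tv N (t * s) (φ + ψ) v := by
  intro m
  obtain ⟨n1, hn1, h1⟩ := hψ m
  obtain ⟨n2, hn2, h2⟩ := hφ m
  obtain ⟨n3, hn3, h3⟩ := hφ v
  rw [hφv, zero_smul, add_zero] at h3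
  refine ⟨n2 + ψ m • n3 + n1, add_mem (add_mem hn2 (zmem _ hn3)) hn1, ?_⟩
  rw [mul_smul, h1, smul_add, smul_add, h.LN t ht n1 hn1, smul_zsmul, h3, h2, LinearMap.add_apply]
  module

theorem th_add {v : M} (hv : v ∈ Λ) {φ ψ : Dual (ZMod 2) M} (hφ : φ ∈ th L N v) (hψ : ψ ∈ th L N v) :
    φ + ψ ∈ th L N v := by
  have h0 := h.th_self hv hφ
  obtain ⟨t, ht, h1⟩ := hφ
  obtain ⟨s, hs, h2⟩ := hψ
  exact ⟨t * s, mul_mem ht hs, h.tv_mul ht h1 h0 h2⟩

omit h in
/-- the action of `g` -/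
def sm (g : H) : M →ₗ[ZMod 2] M where
  toFun m := g • m
  map_add' a b := smul_add g a b
  map_smul' a m := smul_zsmul g a m

omit h in
/-- the functional `φ ∘ g⁻¹` -/
def cf (g : H) (φ : Dual (ZMod 2) M) : Dual (ZMod 2) M := φ.comp (sm g⁻¹)

omit h in
theorem cf_apply (g : H) (φ : Dual (ZMod 2) M) (m : M) : cf g φ m = φ (g⁻¹ • m) := rfl

omit h in
theorem finDual [Finite M] : Finite (Dual (ZMod 2) M) := DFunLike.finite _

omit h in
theorem cf_inj (g : H) : Function.Injective (cf (M := M) g) := by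
  intro φ ψ e
  ext m
  have := LinearMap.congr_fun e (g • m)
  rwa [cf_apply, cf_apply, inv_smul_smul] at this

theorem tv_conj {v : M} {φ : Dual (ZMod 2) M} {t : H} (hφ : Tv N t φ v) (g : H) :
    Tv N (g * t * g⁻¹) (cf g φ) (g • v) := by
  intro m
  obtain ⟨n, hn, h1⟩ := hφ (g⁻¹ • m)
  refine ⟨g • n, h.HN g n hn, ?_⟩
  rw [mul_smul, mul_smul, h1, smul_add, smul_add, smul_inv_smul, smul_zsmul, cf_apply]

theorem th_conj {v : M} {φ : Dual (ZMod 2) M} (hφ : φ ∈ th L N v) (g : H) : cf g φ ∈ th L N (g • v) := by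
  obtain ⟨t, ht, h1⟩ := hφ
  exact ⟨_, h.Ln g t ht, h.tv_conj h1 g⟩

theorem tv_congr {v w : M} {φ : Dual (ZMod 2) M} {t : H} (hφ : Tv N t φ v) (hvw : v - w ∈ N) : Tv N t φ w := by
  intro m
  obtain ⟨n, hn, h1⟩ := hφ m
  refine ⟨φ m • (v - w) + n, add_mem (zmem _ hvw) hn, ?_⟩
  rw [h1, smul_sub]; abel

theorem th_congr {v w : M} (hvw : v - w ∈ N) : th L N v = th L N w := by
  have hwv : w - v ∈ N := by rw [← neg_sub]; exact neg_mem hvw
  ext φ
  exact ⟨fun ⟨t, ht, h1⟩ => ⟨t, ht, h.tv_congr h1 hvw⟩, fun ⟨t, ht, h1⟩ => ⟨t, ht, h.tv_congr h1 hwv⟩⟩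

theorem ncard_th [Finite M] {v w : M} (hv : v ∈ Λ) (hw : w ∈ Λ) : (th L N v).ncard = (th L N w).ncard := by
  have := finDual (M := M)
  have key : ∀ v ∈ Λ, ∀ w ∈ Λ, (th L N v).ncard ≤ (th L N w).ncard := by
    intro v hv w hw
    obtain ⟨g, rfl⟩ := h.trans v hv w hw
    exact Set.ncard_le_ncard_of_injOn (cf g) (fun φ hφ => h.th_conj hφ g) ((cf_inj g).injOn) (Set.toFinite _)
  exact le_antisymm (key v hv w hw) (key w hw v hv)

/-- if `v` is joined to `w`, `ψ ∈ Th(w)`, `ψ(v) = 0`, then `ψ ∈ Th(v)` -/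
theorem th_of_jo {v w : M} (hw : w ∈ Λ) (hj : Jo L N v w) {ψ : Dual (ZMod 2) M} (hψ : ψ ∈ th L N w)
    (hψv : ψ v = 0) : ψ ∈ th L N v := by
  obtain ⟨φ, hφ, hφw⟩ := hj
  have hψw := h.th_self hw hψ
  have hψN := fun n (hn : n ∈ N) => h.th_N hw hψ hn
  obtain ⟨t, ht, h1⟩ := hφ
  -- `cf t ψ = ψ`
  have e1 : cf t ψ = ψ := by
    have key : ∀ m, ψ (t • m) = ψ m := by
      intro m
      obtain ⟨n, hn, h2⟩ := h1 m
      rw [h2, map_add, map_add, map_smul, hψv, smul_zero, add_zero, hψN n hn, add_zero]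
    ext m
    rw [cf_apply, ← key (t⁻¹ • m), smul_inv_smul]
  have h2 := h.th_conj hψ t
  rw [e1] at h2
  obtain ⟨n, hn, h3⟩ := h1 w
  rw [hφw, one_smul] at h3
  have h4 : th L N (t • w) = th L N (w + v) := h.th_congr (by rw [h3, add_sub_cancel_left]; exact hn)
  rw [h4] at h2
  obtain ⟨a, ha, ha1⟩ := h2
  obtain ⟨b, hb, hb1⟩ := hψ
  refine ⟨a * b, mul_mem ha hb, fun m => ?_⟩
  obtain ⟨n1, hn1, e1⟩ := hb1 m
  obtain ⟨n2, hn2, e2⟩ := ha1 (m + ψ m • w)
  refine ⟨n2 + n1, add_mem hn2 hn1, ?_⟩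
  rw [mul_smul, e1, smul_add, h.LN a ha n1 hn1, e2, map_add, map_smul, hψw, smul_zero, add_zero, smul_add]
  have e3 : m + ψ m • w + (ψ m • w + ψ m • v) = m + ψ m • v + (ψ m • w + ψ m • w) := by abel
  rw [e3, add_self', add_zero, add_assoc]

theorem jo_symm [Finite M] {v w : M} (hv : v ∈ Λ) (hw : w ∈ Λ) (hj : Jo L N v w) : Jo L N w v := by
  have := finDual (M := M)
  by_contra hcon
  have h0 : ∀ ψ ∈ th L N w, ψ v = 0 := by
    intro ψ hψ
    rcases zcases (ψ v) with e | e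
    · exact e
    · exact absurd ⟨ψ, hψ, e⟩ hcon
  have h1 : th L N w ⊆ th L N v := fun ψ hψ => h.th_of_jo hw hj hψ (h0 ψ hψ)
  have h2 : th L N w = th L N v := Set.eq_of_subset_of_ncard_le h1 (h.ncard_th hv hw).le (Set.toFinite _)
  obtain ⟨φ, hφ, hφw⟩ := hj
  rw [← h2] at hφ
  rw [h.th_self hw hφ] at hφw
  exact absurd hφw (by decide)

theorem jo_congr {v w w' : M} (hv : v ∈ Λ) (hww : w - w' ∈ N) (hj : Jo L N v w) : Jo L N v w' := by
  obtain ⟨φ, hφ, h1⟩ := hj
  refine ⟨φ, hφ, ?_⟩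
  have h2 := h.th_N hv hφ hww
  rw [map_sub, h1] at h2
  exact (sub_eq_zero.1 h2).symm

theorem jo_conj {v w : M} (hj : Jo L N v w) (g : H) : Jo L N (g • v) (g • w) := by
  obtain ⟨φ, hφ, h1⟩ := hj
  exact ⟨_, h.th_conj hφ g, by rw [cf_apply, inv_smul_smul]; exact h1⟩

theorem jo_congr_left {v v' w : M} (hvv : v - v' ∈ N) (hj : Jo L N v w) : Jo L N v' w := by
  obtain ⟨φ, hφ, h1⟩ := hj
  exact ⟨φ, by rwa [← h.th_congr hvv], h1⟩

/-! ### (TR) -/

/-- (TR) for joined `μ`, `ρ` -/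
theorem tr_one [Finite M] {v m r : M} (hv : v ∈ Λ) (hm : m ∈ Λ) (hr : r ∈ Λ) (hvm : Jo L N v m) (hvr : Jo L N v r)
    (hmr : Jo L N m r) : ∃ l ∈ L, l • v - v ∈ N ∧ l • m - r ∈ N := by
  obtain ⟨φ0, hφ0, h0⟩ := id hmr
  obtain ⟨t, ht, ht1⟩ := id hφ0
  -- `σ = m + r`
  obtain ⟨n, hn, hs⟩ := ht1 r
  rw [h0, one_smul] at hs
  set s := t • r with hsdef
  have hsΛ : s ∈ Λ := h.HL t r hr
  have hmm := h.th_self hm hφ0
  have hms : Jo L N m s := ⟨φ0, hφ0, by rw [hs, map_add, map_add, h0, hmm, h.th_N hm hφ0 hn]; rfl⟩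
  obtain ⟨ψ0, hψ0, hψm⟩ := h.jo_symm hm hsΛ hms
  -- it is enough to find `ψ ∈ Th(σ)`, `ψ(m) = 1`, `ψ(v) = 0`
  have key : ∀ ψ ∈ th L N s, ψ m = 1 → ψ v = 0 → ∃ l ∈ L, l • v - v ∈ N ∧ l • m - r ∈ N := by
    rintro ψ ⟨l, hl, hl1⟩ h1 h2
    refine ⟨l, hl, ?_, ?_⟩
    · obtain ⟨k, hk, e⟩ := hl1 v
      rw [e, h2, zero_smul, add_zero, add_sub_cancel_left]
      exact hk
    · obtain ⟨k, hk, e⟩ := hl1 m
      rw [e, h1, one_smul, hs]
      have e3 : m + (r + m + n) + k - r = (m + m) + (n + k) := by abel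
      rw [e3, add_self', zero_add]
      exact add_mem hn hk
  rcases zcases (ψ0 v) with e | e
  · exact key ψ0 hψ0 hψm e
  -- `σ` is joined to `v`
  have hsv : Jo L N s v := ⟨ψ0, hψ0, e⟩
  obtain ⟨φs, hφs, hφs1⟩ := h.jo_symm hsΛ hv hsv
  -- elements of `Th(v)` vanishing on `σ` with value 1 on `m`
  have key2 : ∀ φ ∈ th L N v, φ s = 0 → φ m = 1 → ∃ l ∈ L, l • v - v ∈ N ∧ l • m - r ∈ N := fun φ hφ h1 h2 =>
    key φ (h.th_of_jo hv hsv hφ h1) h2 (h.th_self hv hφ)
  have hval : ∀ φ ∈ th L N v, φ s = φ r + φ m := by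
    intro φ hφ
    rw [hs, map_add, map_add, h.th_N hv hφ hn, add_zero]
  obtain ⟨φr, hφr, hφr1⟩ := hvr
  obtain ⟨φm, hφm, hφm1⟩ := hvm
  rcases zcases (φs m) with e1 | e1
  · -- `φs(r) = 1`
    rcases zcases (φm r) with e2 | e2
    · refine key2 (φs + φm) (h.th_add hv hφs hφm) ?_ ?_
      · rw [LinearMap.add_apply, hφs1, hval φm hφm, e2, hφm1]; rfl
      · rw [LinearMap.add_apply, e1, hφm1]; rfl
    · exact key2 φm hφm (by rw [hval φm hφm, e2, hφm1]; rfl) hφm1
  · rcases zcases (φr m) with e2 | e2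
    · refine key2 (φs + φr) (h.th_add hv hφs hφr) ?_ ?_
      · rw [LinearMap.add_apply, hφs1, hval φr hφr, e2, hφr1]; rfl
      · rw [LinearMap.add_apply, e1, e2]; rfl
    · exact key2 φr hφr (by rw [hval φr hφr, e2, hφr1]; rfl) e2

/-- (TR) -/
theorem tr [Finite M] {v m r : M} (hv : v ∈ Λ) (hm : m ∈ Λ) (hr : r ∈ Λ) (hvm : Jo L N v m) (hvr : Jo L N v r) :
    ∃ l ∈ L, l • v - v ∈ N ∧ l • m - r ∈ N := by
  by_cases hmr : Jo L N m r
  · exact h.tr_one hv hm hr hvm hvr hmr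
  obtain ⟨φ, hφ, h1⟩ := id hvm
  obtain ⟨t, ht, ht1⟩ := id hφ
  have hvv := h.th_self hv hφ
  obtain ⟨n, hn, e⟩ := ht1 m
  rw [h1, one_smul] at e
  obtain ⟨k, hk, e'⟩ := ht1 v
  rw [hvv, zero_smul, add_zero] at e'
  have hm' : t • m ∈ Λ := h.HL t m hm
  have h2 : Jo L N v (t • m) := ⟨φ, hφ, by rw [e, map_add, map_add, h1, hvv, h.th_N hv hφ hn]; rfl⟩
  have h3 : Jo L N r (t • m) := by
    obtain ⟨ψ, hψ, h4⟩ := h.jo_symm hv hr hvr
    refine ⟨ψ, hψ, ?_⟩
    have h5 : ψ m = 0 := by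
      rcases zcases (ψ m) with e2 | e2
      · exact e2
      · exact absurd (h.jo_symm hr hm ⟨ψ, hψ, e2⟩) hmr
    rw [e, map_add, map_add, h5, h4, h.th_N hr hψ hn]; rfl
  obtain ⟨l, hl, h4, h5⟩ := h.tr_one hv hm' hr h2 hvr (h.jo_symm hr hm' h3)
  refine ⟨l * t, mul_mem hl ht, ?_, ?_⟩
  · rw [mul_smul, e', smul_add, h.LN l hl k hk]
    have : l • v + k - v = (l • v - v) + k := by abel
    rw [this]
    exact add_mem h4 hk
  · rw [mul_smul]; exact h5

/-! ### the conjugates of `v` under `L` -/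

omit h in
/-- `v^L`, modulo `P` -/
def Xc (L : Subgroup H) (P : AddSubgroup M) (v : M) : Set M := {u | ∃ y ∈ L, u - y • v ∈ P}

theorem xc_ul [Finite H] {v u u' : M} (hv : v ∈ Λ) (hu : u ∈ Xc L P v) (hu' : u' ∈ Xc L P v) (e : u - u' ∈ N) :
    u - u' ∈ P := by
  obtain ⟨y, hy, h1⟩ := hu
  obtain ⟨y', hy', h2⟩ := hu'
  have h3 : y • v - y' • v ∈ N := by
    have e1 : y • v - y' • v = (u - u') - (u - y • v) + (u' - y' • v) := by abel
    rw [e1]
    exact add_mem (sub_mem e (h.PN h1)) (h.PN h2)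
  have h4 : (y'⁻¹ * y) • v - v ∈ N := by
    have e1 : (y'⁻¹ * y) • v - v = y'⁻¹ • (y • v - y' • v) := by
      rw [mul_smul, smul_sub, inv_smul_smul]
    rw [e1]
    exact h.LN' _ (inv_mem hy') _ h3
  have h5 := h.ul hv (mul_mem (inv_mem hy') hy) h4
  have h6 := h.LP' y' hy' _ h5
  rw [smul_sub, mul_smul, smul_inv_smul] at h6
  have e1 : u - u' = (u - y • v) + (y • v - y' • v) - (u' - y' • v) := by abel
  rw [e1]
  exact sub_mem (add_mem h1 h6) h2

theorem xc_self (v : M) : v ∈ Xc L P v := ⟨1, one_mem _, by rw [one_smul, sub_self]; exact zero_mem _⟩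

theorem xc_L {v u : M} (hu : u ∈ Xc L P v) {l : H} (hl : l ∈ L) : l • u ∈ Xc L P v := by
  obtain ⟨y, hy, h1⟩ := hu
  refine ⟨l * y, mul_mem hl hy, ?_⟩
  rw [mul_smul, ← smul_sub]
  exact h.LP' l hl _ h1

theorem xc_s {v u : M} (hu : u ∈ Xc L P v) {s : H} (hs : s • v - v ∈ P) : s • u ∈ Xc L P v := by
  obtain ⟨y, hy, h1⟩ := hu
  refine ⟨s * y * s⁻¹, h.Ln s y hy, ?_⟩
  have h2 := h.HP s _ h1
  have h3 := h.LP' _ (h.Ln s y hy) _ hs
  have e : s • u - (s * y * s⁻¹) • v = s • (u - y • v) + (s * y * s⁻¹) • (s • v - v) := by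
    rw [smul_sub, smul_sub, ← mul_smul, ← mul_smul]
    have : s * y * s⁻¹ * s = s * y := by group
    rw [this]; abel
  rw [e]
  exact add_mem h2 h3

theorem jo_L [Finite M] {v m : M} (hv : v ∈ Λ) (hm : m ∈ Λ) (hj : Jo L N v m) : ∃ y ∈ L, y • v - m ∈ N := by
  obtain ⟨φ, hφ, h1⟩ := id hj
  obtain ⟨ψ, ⟨s, hs, hs1⟩, h2⟩ := h.jo_symm hv hm hj
  have hvv := h.th_self hv hφ
  obtain ⟨t, ht, ht1⟩ := hφ
  obtain ⟨n, hn, e1⟩ := hs1 v
  obtain ⟨k, hk, e2⟩ := ht1 (v + m)
  rw [h2, one_smul] at e1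
  rw [map_add, hvv, h1, zero_add, one_smul] at e2
  refine ⟨t * s, mul_mem ht hs, ?_⟩
  rw [mul_smul, e1, smul_add, h.LN t ht n hn, e2]
  have : v + m + v + k + n - m = (v + v) + (k + n) := by abel
  rw [this, add_self', zero_add]
  exact add_mem hk hn

/-- data: `t ∈ L` acts as a transvection with centre `v`, `m ∈ v^L` is moved -/
structure Mv (L : Subgroup H) (N P : AddSubgroup M) (Λ : Set M) (v m : M) (t : H) : Prop where
  t_mem : t ∈ L
  tv : ∃ φ, Tv N t φ v ∧ φ m = 1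
  m_mem : m ∈ Λ
  m_xc : m ∈ Xc L P v

theorem Mv.jo {v m : M} {t : H} (k : Mv L N P Λ v m t) : Jo L N v m := by
  obtain ⟨φ, h1, h2⟩ := k.tv
  exact ⟨φ, ⟨t, k.t_mem, h1⟩, h2⟩

theorem Mv.eq {v m : M} {t : H} (k : Mv L N P Λ v m t) : ∃ n ∈ N, t • m = m + v + n := by
  obtain ⟨φ, h1, h2⟩ := k.tv
  obtain ⟨n, hn, h3⟩ := h1 m
  rw [h2, one_smul] at h3
  exact ⟨n, hn, h3⟩

/-- `ν = v + m + t m` lies in `N` -/
theorem nu_mem {v m : M} {t : H} (k : Mv L N P Λ v m t) : v + m + t • m ∈ N := by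
  obtain ⟨n, hn, e⟩ := Mv.eq h k
  rw [e]
  have : v + m + (m + v + n) = (v + v) + (m + m) + n := by abel
  rw [this, add_self', add_self', zero_add, zero_add]
  exact hn

/-- `ν` is constant modulo `P` -/
theorem nu_const [Finite H] [Finite M] {v m m' : M} {t t' : H} (hv : v ∈ Λ) (k : Mv L N P Λ v m t)
    (k' : Mv L N P Λ v m' t') : (v + m + t • m) - (v + m' + t' • m') ∈ P := by
  obtain ⟨l, hl, h1, h2⟩ := h.tr hv k.m_mem k'.m_mem (Mv.jo h k) (Mv.jo h k')
  have h1' := h.ul hv hl h1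
  have h2' := h.xc_ul hv (h.xc_L k.m_xc hl) k'.m_xc h2
  have h3 : l • (t • m) - t' • m' ∈ N := by
    obtain ⟨n, hn, e⟩ := Mv.eq h k
    obtain ⟨n', hn', e'⟩ := Mv.eq h k'
    have : l • (t • m) - t' • m' = (l • m - m') + (l • v - v) + (l • n - n') := by
      rw [e, e', smul_add, smul_add]; abel
    rw [this, h.LN l hl n hn]
    exact add_mem (add_mem h2 h1) (sub_mem hn hn')
  have h3' := h.xc_ul hv (h.xc_L (h.xc_L k.m_xc k.t_mem) hl) (h.xc_L k'.m_xc k'.t_mem) h3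
  have h4 := h.LN l hl _ (h.nu_mem k)
  have : (v + m + t • m) - (v + m' + t' • m') = (l • v - v) + (l • m - m') + (l • (t • m) - t' • m') := by
    conv_lhs => rw [← h4]
    rw [smul_add, smul_add]; abel
  rw [this]
  exact add_mem (add_mem h1' h2') h3'

/-- an element fixing `v` can be corrected by an element of `L` to fix `v`, `m`, `t m` modulo `P` -/
theorem fix_three [Finite H] [Finite M] {v m : M} {t s : H} (hv : v ∈ Λ) (k : Mv L N P Λ v m t)
    (hs : s • v - v ∈ P) : ∃ l ∈ L, (l * s) • v - v ∈ P ∧ (l * s) • m - m ∈ P ∧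
      (l * s) • (t • m) - t • m ∈ P := by
  have hsN := h.PN hs
  have hj : Jo L N v (s • m) := h.jo_congr_left hsN (h.jo_conj (Mv.jo h k) s)
  obtain ⟨l, hl, h1, h2⟩ := h.tr hv (h.HL s m k.m_mem) k.m_mem hj (Mv.jo h k)
  have h1' := h.ul hv hl h1
  have h2' := h.xc_ul hv (h.xc_L (h.xc_s k.m_xc hs) hl) k.m_xc h2
  have hlv : (l * s) • v - v = l • (s • v - v) + (l • v - v) := by rw [mul_smul, smul_sub]; abel
  have h3 : l • (s • (t • m)) - t • m ∈ N := by
    obtain ⟨n, hn, e⟩ := Mv.eq h k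
    have : l • (s • (t • m)) - t • m = (l • (s • m) - m) + (l • (s • v - v) + (l • v - v)) + (l • (s • n) - n) := by
      rw [e, smul_add, smul_add, smul_add, smul_add, smul_sub]; abel
    rw [this, h.LN l hl _ (h.HN s n hn)]
    exact add_mem (add_mem h2 (add_mem (h.LN' l hl _ hsN) h1)) (sub_mem (h.HN s n hn) hn)
  have h3' := h.xc_ul hv (h.xc_L (h.xc_s (h.xc_L k.m_xc k.t_mem) hs) hl) (h.xc_L k.m_xc k.t_mem) h3
  refine ⟨l, hl, ?_, ?_, ?_⟩
  · rw [hlv]
    exact add_mem (h.LP' l hl _ hs) h1'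
  · rw [mul_smul]; exact h2'
  · rw [mul_smul]; exact h3'

/-- **the end of (N1)** -/
theorem tp_end [Finite H] [Finite M] {v : M} (hv : v ∈ Λ) {m : M} {t : H} (k : Mv L N P Λ v m t)
    (hν : v + m + t • m ∈ P) {s : H} (hs : s ∈ L) {φ : Dual (ZMod 2) M} (hφ : Tv N s φ v) {w : M} (hw : w ∈ Λ) :
    ∃ n ∈ P, s • w = w + φ w • v + n := by
  rcases zcases (φ w) with e | e
  · obtain ⟨n, hn, h1⟩ := hφ w
    rw [e, zero_smul, add_zero] at h1
    refine ⟨s • w - w, h.ul hw hs (by rw [h1, add_sub_cancel_left]; exact hn), ?_⟩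
    rw [e, zero_smul]; abel
  · obtain ⟨y, hy, h1⟩ := h.jo_L hv hw ⟨φ, ⟨s, hs, hφ⟩, e⟩
    have hφN := h.th_N hv ⟨s, hs, hφ⟩ h1
    have h2 : φ (y • v) = 1 := by
      rw [map_sub, e] at hφN
      exact sub_eq_zero.1 hφN
    have k' : Mv L N P Λ v (y • v) s := ⟨hs, ⟨φ, hφ, h2⟩, h.HL y v hv, ⟨y, hy, by rw [sub_self]; exact zero_mem _⟩⟩
    have h3 := h.nu_const hv k k'
    have h4 : v + y • v + s • (y • v) ∈ P := by
      have : v + y • v + s • (y • v) = (v + m + t • m) - ((v + m + t • m) - (v + y • v + s • (y • v))) := by abel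
      rw [this]
      exact sub_mem hν h3
    refine ⟨v + y • v + s • (y • v), h4, ?_⟩
    have h5 : s • w = s • (y • v) - (y • v - w) := by
      have : s • w = s • (y • v) - s • (y • v - w) := by rw [smul_sub]; abel
      rw [this, h.LN s hs _ h1]
    rw [h5, e, one_smul]
    have : w + v + (v + y • v + s • (y • v)) = (v + v) + (y • v + y • v) + (w - y • v) + s • (y • v) := by abel
    rw [this, add_self', add_self', zero_add, zero_add]
    abel

end Sy

/-! ### (1): from (S) and exactness to transvections -/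

section one

variable {L : Subgroup H} {N P : AddSubgroup M} {Λ : Set M}

/-- (S) for `h`: the group generated by `C^h` and `C^{h⁻¹}` maps `h v` and `h⁻¹ v` into `⟨h v, h⁻¹ v⟩ + N` -/
def SS (C : Subgroup H) (N : AddSubgroup M) (v : M) (h : H) : Prop :=
  ∀ g ∈ Subgroup.closure ({x | ∃ c ∈ C, x = h * c * h⁻¹} ∪ {x | ∃ c ∈ C, x = h⁻¹ * c * h}),
    (∃ a b : ZMod 2, g • (h • v) - (a • (h • v) + b • (h⁻¹ • v)) ∈ N) ∧
      ∃ a b : ZMod 2, g • (h⁻¹ • v) - (a • (h • v) + b • (h⁻¹ • v)) ∈ N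

/-- (S) : `v + h v + h⁻¹ v ∈ N`, and `[h v, C] ⊆ ⟨v⟩ + N` -/
theorem SS.out (hN : ∀ (g : H), ∀ n ∈ N, g • n ∈ N) {C : Subgroup H} {v : M} (hv : v ∉ N)
    (hC : ∀ c ∈ C, c • v = v) {a h : H} (ha : a ∈ C) (haa : a * a = 1) (hodd : Odd (orderOf h))
    (hinv : a * h * a⁻¹ = h⁻¹) (hne : h • v - v ∉ N) (hs : SS C N v h) :
    v + h • v + h⁻¹ • v ∈ N ∧ ∀ c ∈ C, ∃ b : ZMod 2, c • (h • v) - (h • v + b • v) ∈ N := by
  set K := Subgroup.closure ({x | ∃ c ∈ C, x = h * c * h⁻¹} ∪ {x | ∃ c ∈ C, x = h⁻¹ * c * h}) with hK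
  have hK1 : ∀ c ∈ C, h * c * h⁻¹ ∈ K := fun c hc => Subgroup.subset_closure (Or.inl ⟨c, hc, rfl⟩)
  have hK2 : ∀ c ∈ C, h⁻¹ * c * h ∈ K := fun c hc => Subgroup.subset_closure (Or.inr ⟨c, hc, rfl⟩)
  have hai : a⁻¹ = a := inv_eq_of_mul_eq_one_left haa
  have hinv' : a * h⁻¹ * a⁻¹ = h := by
    have := congrArg (fun x => x⁻¹) hinv
    simpa [mul_assoc] using this
  -- `h ∈ K`
  have hhK : h ∈ K := by
    have h1 : h ^ 4 ∈ K := by
      have h2 := K.mul_mem (hK1 a ha) (hK2 a ha)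
      have e : h * a * h⁻¹ * (h⁻¹ * a * h) = h ^ 4 := by
        calc h * a * h⁻¹ * (h⁻¹ * a * h) = h * (a * h⁻¹ * a⁻¹) * (a * h⁻¹ * a⁻¹) * (a * a) * h := by group
          _ = h ^ 4 := by rw [hinv', haa, mul_one, pow_succ, pow_succ, pow_two]
      rwa [e] at h2
    obtain ⟨m, hm⟩ := exists_pow_eq_self_of_coprime (x := h) (n := 4)
      (show Nat.Coprime 4 (orderOf h) by
        rw [show (4 : ℕ) = 2 ^ 2 by norm_num]
        exact Nat.Coprime.pow_left _ (Nat.coprime_two_left.2 hodd))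
    rw [← hm]
    exact K.pow_mem h1 m
  -- `v ∈ ⟨h v, h⁻¹ v⟩ + N`
  have hne' : h⁻¹ • v - v ∉ N := by
    intro h0
    apply hne
    have := hN h _ h0
    rw [smul_sub, smul_inv_smul] at this
    rw [← neg_sub]
    exact neg_mem this
  have h3 : v + h • v + h⁻¹ • v ∈ N := by
    obtain ⟨α, β, h4⟩ := (hs h hhK).2
    rw [smul_inv_smul] at h4
    rcases zcases α with rfl | rfl <;> rcases zcases β with rfl | rfl
    · rw [zero_smul, zero_smul, add_zero, sub_zero] at h4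
      exact absurd h4 hv
    · rw [zero_smul, one_smul, zero_add] at h4
      exact absurd (by rw [← neg_sub]; exact neg_mem h4) hne'
    · rw [zero_smul, one_smul, add_zero] at h4
      exact absurd (by rw [← neg_sub]; exact neg_mem h4) hne
    · rw [one_smul, one_smul, sub_eq', ← add_assoc] at h4
      exact h4
  refine ⟨h3, fun c hc => ?_⟩
  -- `h (h v) ∈ h⁻¹ v + N`
  have h5 : h • (h • v) - h⁻¹ • v ∈ N := by
    have h6 := hN h _ h3
    rw [smul_add, smul_add, smul_inv_smul] at h6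
    have e : h • (h • v) - h⁻¹ • v = (h • v + h • (h • v) + v) - (v + h • v + h⁻¹ • v) := by abel
    rw [e]
    exact sub_mem h6 h3
  have h5' : h⁻¹ • (h⁻¹ • v) - h • v ∈ N := by
    have h6 := hN h⁻¹ _ h3
    rw [smul_add, smul_add, inv_smul_smul] at h6
    have e : h⁻¹ • (h⁻¹ • v) - h • v = (h⁻¹ • v + v + h⁻¹ • (h⁻¹ • v)) - (v + h • v + h⁻¹ • v) := by abel
    rw [e]
    exact sub_mem h6 h3
  set g := h * c * h⁻¹ with hg
  have hgK : g ∈ K := hK1 c hc
  have hgh : g • (h • v) = h • v := by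
    rw [hg, mul_smul, mul_smul, inv_smul_smul, hC c hc]
  obtain ⟨α, β, h7⟩ := (hs g hgK).2
  have hβ : β = 1 := by
    rcases zcases β with rfl | rfl
    · exfalso
      rw [zero_smul, add_zero] at h7
      rcases zcases α with rfl | rfl
      · rw [zero_smul, sub_zero] at h7
        have h8 := hN h _ (hN g⁻¹ _ h7)
        rw [inv_smul_smul, smul_inv_smul] at h8
        exact hv h8
      · rw [one_smul] at h7
        have h8 := hN g⁻¹ _ h7
        rw [smul_sub, inv_smul_smul] at h8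
        have h9 : g⁻¹ • (h • v) = h • v := by rw [inv_smul_eq_iff, hgh]
        rw [h9] at h8
        apply hv
        have e : v = (v + h • v + h⁻¹ • v) - (h • v + h⁻¹ • v) := by abel
        rw [e]
        refine sub_mem h3 ?_
        rwa [sub_eq', add_comm] at h8
    · rfl
  rw [hβ, one_smul] at h7
  refine ⟨α, ?_⟩
  -- `c (h v) = h⁻¹ g (h (h v))`
  have e1 : c • (h • v) = h⁻¹ • (g • (h • (h • v))) := by
    rw [hg, ← mul_smul, ← mul_smul, ← mul_smul, ← mul_smul]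
    congr 1
    group
  have h8 : g • (h • (h • v)) - g • (h⁻¹ • v) ∈ N := by rw [← smul_sub]; exact hN g _ h5
  have h9 : h⁻¹ • (g • (h • (h • v))) - h⁻¹ • (α • (h • v) + h⁻¹ • v) ∈ N := by
    rw [← smul_sub]
    apply hN
    have e : g • (h • (h • v)) - (α • (h • v) + h⁻¹ • v) =
      (g • (h • (h • v)) - g • (h⁻¹ • v)) + (g • (h⁻¹ • v) - (α • (h • v) + h⁻¹ • v)) := by abel
    rw [e]
    exact add_mem h8 h7
  rw [e1]
  have e2 : h⁻¹ • (α • (h • v) + h⁻¹ • v) = α • v + h⁻¹ • (h⁻¹ • v) := by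
    rw [smul_add, smul_zsmul, inv_smul_smul]
  rw [e2] at h9
  have e3 : h⁻¹ • (g • (h • (h • v))) - (h • v + α • v) =
    (h⁻¹ • (g • (h • (h • v))) - (α • v + h⁻¹ • (h⁻¹ • v))) + (h⁻¹ • (h⁻¹ • v) - h • v) := by abel
  rw [e3]
  exact add_mem h9 h5'

/-- `{m : [m, C] ⊆ ⟨v⟩ + N}` -/
def M1 (C : Subgroup H) (N : AddSubgroup M) (v : M) : AddSubgroup M where
  carrier := {m | ∀ c ∈ C, ∃ b : ZMod 2, c • m - (m + b • v) ∈ N}
  zero_mem' := fun c _ => ⟨0, by rw [smul_zero, zero_smul, add_zero, sub_zero]; exact zero_mem _⟩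
  add_mem' := by
    intro m m' hm hm' c hc
    obtain ⟨a, ha⟩ := hm c hc
    obtain ⟨b, hb⟩ := hm' c hc
    refine ⟨a + b, ?_⟩
    have e : c • (m + m') - (m + m' + (a + b) • v) = (c • m - (m + a • v)) + (c • m' - (m' + b • v)) := by
      rw [smul_add, add_smul]; abel
    rw [e]
    exact add_mem ha hb
  neg_mem' := by
    intro m hm
    rw [neg_self']
    exact hm

/-- `{m : [m, A] ⊆ K}` -/
def cA (A : Subgroup H) (K : AddSubgroup M) : AddSubgroup M where
  carrier := {m | ∀ a ∈ A, a • m - m ∈ K}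
  zero_mem' := fun c _ => by rw [smul_zero, sub_self]; exact zero_mem _
  add_mem' := by
    intro m m' hm hm' c hc
    have e : c • (m + m') - (m + m') = (c • m - m) + (c • m' - m') := by rw [smul_add]; abel
    rw [e]
    exact add_mem (hm c hc) (hm' c hc)
  neg_mem' := by
    intro m hm
    rw [neg_self']
    exact hm

theorem sum_units' {B : Type*} [Group B] [Fintype B] (t : B → ℤˣ) (ht : ∀ b b', t (b * b') = t b * t b') :
    ∑ b, ((t b : ℤˣ) : ℤ) = by classical exact if (∀ b, t b = 1) then (Fintype.card B : ℤ) else 0 := by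
  classical
  split_ifs with h
  · simp [h]
  · push Not at h
    obtain ⟨c, hc⟩ := h
    have hc' : t c = -1 := (Int.units_eq_one_or (t c)).resolve_left hc
    have h1 : ∑ b, ((t b : ℤˣ) : ℤ) = ∑ b, ((t (c * b) : ℤˣ) : ℤ) :=
      (Fintype.sum_equiv (Equiv.mulLeft c) _ _ (fun b => rfl)).symm
    have h2 : ∑ b, ((t (c * b) : ℤˣ) : ℤ) = - ∑ b, ((t b : ℤˣ) : ℤ) := by
      rw [← Finset.sum_neg_distrib]
      refine Finset.sum_congr rfl fun b _ => ?_
      rw [ht, hc']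
      simp
    omega

/-- double counting for a pairing with values `±1` -/
theorem pairing_units' {A B : Type*} [Group A] [Group B] [Finite A] [Finite B] (s : A → B → ℤˣ)
    (hl : ∀ a a' b, s (a * a') b = s a b * s a' b) (hr : ∀ a b b', s a (b * b') = s a b * s a b') :
    Nat.card {a // ∀ b, s a b = 1} * Nat.card B = Nat.card A * Nat.card {b // ∀ a, s a b = 1} := by
  classical
  have := Fintype.ofFinite A
  have := Fintype.ofFinite B
  have h1 : ∑ a, ∑ b, ((s a b : ℤˣ) : ℤ) = Nat.card {a // ∀ b, s a b = 1} * Nat.card B := by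
    have : ∀ a, ∑ b, ((s a b : ℤˣ) : ℤ) = if (∀ b, s a b = 1) then (Fintype.card B : ℤ) else 0 :=
      fun a => by
        rw [sum_units' (s a) (hr a)]
    simp only [this]
    rw [Finset.sum_ite, Finset.sum_const_zero, add_zero, Finset.sum_const, nsmul_eq_mul,
      Nat.card_eq_fintype_card, Nat.card_eq_fintype_card, Fintype.card_subtype]
  have h2 : ∑ b, ∑ a, ((s a b : ℤˣ) : ℤ) = Nat.card {b // ∀ a, s a b = 1} * Nat.card A := by
    have : ∀ b, ∑ a, ((s a b : ℤˣ) : ℤ) = if (∀ a, s a b = 1) then (Fintype.card A : ℤ) else 0 :=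
      fun b => by
        rw [sum_units' (fun a => s a b) (fun a a' => hl a a' b)]
    simp only [this]
    rw [Finset.sum_ite, Finset.sum_const_zero, add_zero, Finset.sum_const, nsmul_eq_mul,
      Nat.card_eq_fintype_card, Nat.card_eq_fintype_card, Fintype.card_subtype]
  rw [Finset.sum_comm, h2] at h1
  have h3 : (Nat.card {a // ∀ b, s a b = 1} * Nat.card B : ℤ) =
      Nat.card A * Nat.card {b // ∀ a, s a b = 1} := by rw [← h1, mul_comm]
  exact_mod_cast h3

theorem card_sup_mul [Finite M] (A B : AddSubgroup M) :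
    Nat.card ↥(A ⊔ B) * Nat.card ↥(A ⊓ B) = Nat.card A * Nat.card B := by
  have h1 : B.relIndex (A ⊔ B) = B.relIndex A := AddSubgroup.relIndex_sup_right A B
  have key : ∀ X Y : AddSubgroup M, X ≤ Y → Nat.card Y = Nat.card X * X.relIndex Y := by
    intro X Y hXY
    have h2 := AddSubgroup.card_mul_index (X.addSubgroupOf Y)
    have h3 : Nat.card (X.addSubgroupOf Y) = Nat.card X :=
      Nat.card_congr (AddSubgroup.addSubgroupOfEquivOfLe hXY).toEquiv
    rw [← h2, h3]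
    rfl
  have h2 := key B (A ⊔ B) le_sup_right
  have h3 := key (A ⊓ B) A inf_le_left
  have h4 : (A ⊓ B).relIndex A = B.relIndex A := AddSubgroup.inf_relIndex_left A B
  rw [h2, h3, h1, h4]
  ring

/-- **(1)** -/
theorem tv_of [Finite H] [Finite M] (hN : ∀ (g : H), ∀ n ∈ N, g • n ∈ N) {A A0 : Subgroup H} {C : Subgroup H} {v : M}
    (hv : v ∉ N) (hAC : A ≤ C)
    (hC : ∀ c ∈ C, c • v = v) (hsq : ∀ a ∈ A, a * a = 1)
    (hex : Nat.card M * Nat.card A0 ≤ Nat.card A * Nat.card (cA A (⊥ : AddSubgroup M)))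
    (hmv : ∀ a ∈ A, a ∉ A0 → ∃ h, Odd (orderOf h) ∧ a * h * a⁻¹ = h⁻¹ ∧ h • v - v ∉ N ∧ SS C N v h) :
    ∀ a ∈ A, ∀ m : M, ∃ b : ZMod 2, a • m - (m + b • v) ∈ N := by
  classical
  have hval : ∀ a ∈ A, ∀ m ∈ M1 C N v, ∃ b : ZMod 2, a • m - (m + b • v) ∈ N := fun a ha m hm => hm a (hAC ha)
  -- the pairing
  have hnot : ∀ a ∈ A, ∀ m ∈ M1 C N v, a • m - m ∉ N → a • m - m - v ∈ N := by
    intro a ha m hm h1
    obtain ⟨b, hb⟩ := hval a ha m hm
    rcases zcases b with rfl | rfl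
    · rw [zero_smul, add_zero] at hb
      exact absurd hb h1
    · rw [one_smul, ← sub_sub] at hb
      exact hb
  have hadd : ∀ x y : M, x ∉ N → x - v ∈ N → y ∉ N → y - v ∈ N → x + y ∈ N := by
    intro x y _ h1 _ h2
    have e : x + y = (x - v) + (y - v) + (v + v) := by abel
    rw [e, add_self', add_zero]
    exact add_mem h1 h2
  have hadd' : ∀ x y : M, x ∈ N → y ∉ N → x + y ∉ N := by
    intro x y h1 h2 h3
    exact h2 ((AddSubgroup.add_mem_cancel_left N h1).1 h3)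
  let s : A → Multiplicative (M1 C N v) → ℤˣ := fun a m =>
    if (a : H) • ((Multiplicative.toAdd m : M1 C N v) : M) - ((Multiplicative.toAdd m : M1 C N v) : M) ∈ N then 1 else -1
  have hl : ∀ a a' b, s (a * a') b = s a b * s a' b := by
    intro a a' b
    set m : M := ((Multiplicative.toAdd b : M1 C N v) : M) with hm
    have hmM : m ∈ M1 C N v := (Multiplicative.toAdd b : M1 C N v).2
    have e : ((a * a' : A) : H) • m - m = (a : H) • ((a' : H) • m - m) + ((a : H) • m - m) := by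
      rw [Subgroup.coe_mul, mul_smul, smul_sub]; abel
    -- `a (a' m - m) = (a' m - m)` modulo `N`
    have e2 : (a : H) • ((a' : H) • m - m) - ((a' : H) • m - m) ∈ N := by
      by_cases h1 : (a' : H) • m - m ∈ N
      · exact sub_mem (hN _ _ h1) h1
      · have h2 := hnot a' a'.2 m hmM h1
        have e3 : (a : H) • ((a' : H) • m - m) - ((a' : H) • m - m) =
          (a : H) • ((a' : H) • m - m - v) - ((a' : H) • m - m - v) + ((a : H) • v - v) := by
          rw [smul_sub (a : H) ((a' : H) • m - m) v]; abel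
        rw [e3, hC _ (hAC a.2), sub_self, add_zero]
        exact sub_mem (hN _ _ h2) h2
    have e4 : ((a * a' : A) : H) • m - m ∈ N ↔ ((a' : H) • m - m) + ((a : H) • m - m) ∈ N := by
      have e5 : ((a * a' : A) : H) • m - m = ((a : H) • ((a' : H) • m - m) - ((a' : H) • m - m)) +
          (((a' : H) • m - m) + ((a : H) • m - m)) := by rw [e]; abel
      rw [e5]
      exact AddSubgroup.add_mem_cancel_left N e2
    change (if ((a * a' : A) : H) • m - m ∈ N then (1 : ℤˣ) else -1) =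
      (if (a : H) • m - m ∈ N then 1 else -1) * (if (a' : H) • m - m ∈ N then 1 else -1)
    by_cases h1 : (a : H) • m - m ∈ N <;> by_cases h2 : (a' : H) • m - m ∈ N
    · rw [if_pos (e4.2 (add_mem h2 h1)), if_pos h1, if_pos h2, one_mul]
    · rw [if_neg (fun h3 => hadd' _ _ h1 h2 (by rw [add_comm]; exact e4.1 h3)), if_pos h1, if_neg h2, one_mul]
    · rw [if_neg (fun h3 => hadd' _ _ h2 h1 (e4.1 h3)), if_neg h1, if_pos h2, mul_one]
    · rw [if_pos (e4.2 (hadd _ _ h2 (hnot a' a'.2 m hmM h2) h1 (hnot a a.2 m hmM h1))), if_neg h1, if_neg h2]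
      rfl
  have hr : ∀ a b b', s a (b * b') = s a b * s a b' := by
    intro a b b'
    set m : M := ((Multiplicative.toAdd b : M1 C N v) : M) with hm
    set m' : M := ((Multiplicative.toAdd b' : M1 C N v) : M) with hm'
    have hmM : m ∈ M1 C N v := (Multiplicative.toAdd b : M1 C N v).2
    have hmM' : m' ∈ M1 C N v := (Multiplicative.toAdd b' : M1 C N v).2
    have e : (a : H) • (m + m') - (m + m') = ((a : H) • m - m) + ((a : H) • m' - m') := by rw [smul_add]; abel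
    change (if (a : H) • (m + m') - (m + m') ∈ N then (1 : ℤˣ) else -1) =
      (if (a : H) • m - m ∈ N then 1 else -1) * (if (a : H) • m' - m' ∈ N then 1 else -1)
    rw [e]
    by_cases h1 : (a : H) • m - m ∈ N <;> by_cases h2 : (a : H) • m' - m' ∈ N
    · rw [if_pos (add_mem h1 h2), if_pos h1, if_pos h2, one_mul]
    · rw [if_neg (hadd' _ _ h1 h2), if_pos h1, if_neg h2, one_mul]
    · rw [add_comm, if_neg (hadd' _ _ h2 h1), if_neg h1, if_pos h2, mul_one]
    · rw [if_pos (hadd _ _ h1 (hnot a a.2 m hmM h1) h2 (hnot a a.2 m' hmM' h2)), if_neg h1, if_neg h2]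
      rfl
  have hp := pairing_units' s hl hr
  have hs1 : ∀ a b, s a b = 1 ↔
      (a : H) • ((Multiplicative.toAdd b : M1 C N v) : M) - ((Multiplicative.toAdd b : M1 C N v) : M) ∈ N := by
    intro a b
    change (if _ then (1 : ℤˣ) else -1) = 1 ↔ _
    by_cases h1 : (a : H) • ((Multiplicative.toAdd b : M1 C N v) : M) - ((Multiplicative.toAdd b : M1 C N v) : M) ∈ N
    · rw [if_pos h1]; exact ⟨fun _ => h1, fun _ => rfl⟩
    · rw [if_neg h1]; exact ⟨fun h2 => absurd h2 (by decide), fun h2 => absurd h2 h1⟩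
  have c1 : Nat.card {a // ∀ b, s a b = 1} ≤ Nat.card A0 := by
    refine Nat.card_le_card_of_injective (fun a => (⟨((a : A) : H), ?_⟩ : A0)) ?_
    · by_contra hcon
      obtain ⟨h, hodd, hinv, hne, hss⟩ := hmv _ (a : A).2 hcon
      obtain ⟨h1, h2⟩ := hss.out hN hv hC (hAC (a : A).2) (hsq _ (a : A).2) hodd hinv hne
      have h3 : h • v ∈ M1 C N v := h2
      have h4 := (hs1 a (Multiplicative.ofAdd ⟨h • v, h3⟩)).1 (a.2 _)
      change ((a : A) : H) • (h • v) - h • v ∈ N at h4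
      have h5 : ((a : A) : H) • (h • v) = h⁻¹ • v := by
        rw [← hinv, mul_smul, mul_smul]
        have h6 : ((a : A) : H)⁻¹ • v = v := by rw [inv_smul_eq_iff, hC _ (hAC (a : A).2)]
        rw [h6]
      rw [h5, sub_eq'] at h4
      apply hv
      have e : v = (v + h • v + h⁻¹ • v) - (h⁻¹ • v + h • v) := by abel
      rw [e]
      exact sub_mem h1 h4
    · intro a a' e
      exact Subtype.ext (Subtype.ext (congrArg (fun x : A0 => (x : H)) e))
  have c2 : Nat.card ↥(M1 C N v ⊓ cA A N) ≤ Nat.card {b // ∀ a, s a b = 1} := by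
    refine Nat.card_le_card_of_injective
      (fun m => ⟨Multiplicative.ofAdd (⟨(m : M), m.2.1⟩ : M1 C N v), fun a => (hs1 a _).2 (m.2.2 a a.2)⟩) ?_
    intro m m' e
    have h1 := congrArg (fun x => ((Multiplicative.toAdd x.1 : M1 C N v) : M)) e
    exact Subtype.ext h1
  have c3 : Nat.card (cA A (⊥ : AddSubgroup M)) ≤ Nat.card (cA A N) := by
    refine Nat.card_le_card_of_injective (fun m => ⟨(m : M), fun a ha => ?_⟩) ?_
    · have := m.2 a ha
      rw [AddSubgroup.mem_bot] at this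
      rw [this]
      exact zero_mem _
    · intro m m' e
      have h1 := congrArg (fun x : cA A N => (x : M)) e
      exact Subtype.ext h1
  have c4 := card_sup_mul (M1 C N v) (cA A N)
  have hcM : Nat.card (Multiplicative (M1 C N v)) = Nat.card (M1 C N v) := rfl
  rw [hcM] at hp
  have p0 : 0 < Nat.card A0 := Nat.card_pos
  have p1 : 0 < Nat.card ↥(M1 C N v ⊓ cA A N) := Nat.card_pos
  have d1 : Nat.card A * Nat.card ↥(M1 C N v ⊓ cA A N) ≤ Nat.card A0 * Nat.card (M1 C N v) :=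
    (Nat.mul_le_mul_left _ c2).trans (hp.ge.trans (Nat.mul_le_mul_right _ c1))
  have d2 : Nat.card M * Nat.card A0 ≤ Nat.card A * Nat.card (cA A N) := hex.trans (Nat.mul_le_mul_left _ c3)
  have d3 : Nat.card M ≤ Nat.card ↥(M1 C N v ⊔ cA A N) := by
    refine Nat.le_of_mul_le_mul_right ?_ (Nat.mul_pos p1 p0)
    calc Nat.card M * (Nat.card ↥(M1 C N v ⊓ cA A N) * Nat.card A0)
        = (Nat.card M * Nat.card A0) * Nat.card ↥(M1 C N v ⊓ cA A N) := by ring
      _ ≤ (Nat.card A * Nat.card (cA A N)) * Nat.card ↥(M1 C N v ⊓ cA A N) := Nat.mul_le_mul_right _ d2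
      _ = (Nat.card A * Nat.card ↥(M1 C N v ⊓ cA A N)) * Nat.card (cA A N) := by ring
      _ ≤ (Nat.card A0 * Nat.card (M1 C N v)) * Nat.card (cA A N) := Nat.mul_le_mul_right _ d1
      _ = (Nat.card ↥(M1 C N v ⊔ cA A N) * Nat.card ↥(M1 C N v ⊓ cA A N)) * Nat.card A0 := by rw [c4]; ring
      _ = _ := by ring
  have htop : M1 C N v ⊔ cA A N = ⊤ := AddSubgroup.eq_top_of_le_card _ d3
  intro a ha m
  have hm : m ∈ M1 C N v ⊔ cA A N := by rw [htop]; exact AddSubgroup.mem_top m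
  obtain ⟨x, hx, y, hy, rfl⟩ := AddSubgroup.mem_sup.1 hm
  obtain ⟨b, hb⟩ := hx a (hAC ha)
  refine ⟨b, ?_⟩
  have e : a • (x + y) - (x + y + b • v) = (a • x - (x + b • v)) + (a • y - y) := by rw [smul_add]; abel
  rw [e]
  exact add_mem hb (hy a ha)

/-- a functional -/
theorem exists_tv {v : M} (hv : v ∉ N) {a : H}
    (h : ∀ m : M, ∃ b : ZMod 2, a • m - (m + b • v) ∈ N) : ∃ φ : Dual (ZMod 2) M, Tv N a φ v := by
  classical
  choose f hf using h
  have huniq : ∀ m (b : ZMod 2), a • m - (m + b • v) ∈ N → b = f m := by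
    intro m b hb
    have h1 := sub_mem hb (hf m)
    have e : a • m - (m + b • v) - (a • m - (m + f m • v)) = (f m - b) • v := by rw [sub_smul]; abel
    rw [e] at h1
    rcases zcases (f m - b) with h2 | h2
    · exact (sub_eq_zero.1 h2).symm
    · rw [h2, one_smul] at h1
      exact absurd h1 hv
  have hadd : ∀ m m', f (m + m') = f m + f m' := by
    intro m m'
    refine (huniq _ _ ?_).symm
    have e : a • (m + m') - (m + m' + (f m + f m') • v) = (a • m - (m + f m • v)) + (a • m' - (m' + f m' • v)) := by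
      rw [smul_add, add_smul]; abel
    rw [e]
    exact add_mem (hf m) (hf m')
  refine ⟨(AddMonoidHom.mk' f hadd).toZModLinearMap 2, fun m => ⟨_, hf m, ?_⟩⟩
  change a • m = m + f m • v + _
  abel

end one

end Cfsg.Agent.Omega.NO3S.WZero.NOne

end

section


/-!
# W0: case (N1) is impossible (helper511 #19388, helper315 #19437, helper502 #19214)

* `MM H W ..` : the elementary abelian group `W` as `F₂`-module for `H ≤ N(W)`;
* `Wz.sy` : the instance `Sy` of `NOneAbs` for the point `p`;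
* `Wz.n1` : for some critical pair `(p, q)` some `f ∈ N_q` does not centralise `W_p`.
-/

set_option autoImplicit false
set_option linter.unusedSectionVars false

namespace Cfsg.Agent.Omega.NO3S.WZero

open Subgroup Cfsg Cfsg.Agent.ZN Cfsg.Agent.MinSimple.Geo Cfsg.Agent.Omega.CaseL Cfsg.Agent.Omega.NO3S.TwoOne
open Cfsg.Agent.Omega.NO3S.Pt
open Cfsg.Agent.Omega.NO3S.Dual (nn mem_nn DW)
open Cfsg.Agent.ZN.Block (conj_mem_of_normalizer conj_mem_of_normalizer' le_normalizer_of_forall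
  mem_normalizer_of)

universe u

variable {G : Type u} [Group G]

namespace NOne

/-! ### the module -/

/-- `W` as a module -/
def MM (H W : Subgroup G) (_ : ∀ a ∈ W, ∀ b ∈ W, a * b = b * a) (_ : ∀ a ∈ W, a * a = 1)
    (_ : H ≤ normalizer (W : Set G)) : Type u := Additive W

section MM

variable {H W : Subgroup G} {hc : ∀ a ∈ W, ∀ b ∈ W, a * b = b * a} {hs : ∀ a ∈ W, a * a = 1}
  {hn : H ≤ normalizer (W : Set G)}

instance : AddGroup (MM H W hc hs hn) := (inferInstance : AddGroup (Additive W))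

instance : AddCommGroup (MM H W hc hs hn) :=
  { (inferInstance : AddGroup (MM H W hc hs hn)) with
    add_comm := fun a b => congrArg Additive.ofMul
      (Subtype.ext (hc _ (Additive.toMul (show Additive W from a)).2 _ (Additive.toMul (show Additive W from b)).2)) }

/-- the element of `W` -/
def val (m : MM H W hc hs hn) : G := ((Additive.toMul (show Additive W from m) : W) : G)

/-- an element of the module -/
def mk (w : G) (hw : w ∈ W) : MM H W hc hs hn := Additive.ofMul (⟨w, hw⟩ : W)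

theorem val_mk {w : G} (hw : w ∈ W) : val (mk w hw : MM H W hc hs hn) = w := rfl

theorem val_inj {a b : MM H W hc hs hn} (h : val a = val b) : a = b := by
  have h1 : (Additive.toMul (show Additive W from a) : W) = Additive.toMul (show Additive W from b) := Subtype.ext h
  exact h1

theorem val_mem (m : MM H W hc hs hn) : val m ∈ W := (Additive.toMul (show Additive W from m) : W).2

theorem val_add (a b : MM H W hc hs hn) : val (a + b) = val a * val b := rfl

theorem val_zero : val (0 : MM H W hc hs hn) = 1 := rfl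

theorem val_neg (a : MM H W hc hs hn) : val (-a) = (val a)⁻¹ := rfl

theorem val_sub (a b : MM H W hc hs hn) : val (a - b) = val a * (val b)⁻¹ := by
  rw [sub_eq_add_neg, val_add, val_neg]

instance : Module (ZMod 2) (MM H W hc hs hn) := AddCommGroup.zmodModule fun x => by
  rw [two_nsmul]
  exact val_inj (by rw [val_add, val_zero]; exact hs _ (val_mem x))

instance : DistribMulAction H (MM H W hc hs hn) where
  smul g m := mk (g * val m * (g : G)⁻¹) (conj_mem_of_normalizer hn g.2 (val_mem m))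
  one_smul m := val_inj (by change (1 : G) * val m * (1 : G)⁻¹ = val m; group)
  mul_smul g h m := val_inj (by
    change (g * h : G) * val m * (g * h : G)⁻¹ = g * (h * val m * (h : G)⁻¹) * (g : G)⁻¹
    group)
  smul_zero g := val_inj (by change (g : G) * 1 * (g : G)⁻¹ = 1; group)
  smul_add g a b := val_inj (by
    change (g : G) * (val a * val b) * (g : G)⁻¹ = (g * val a * (g : G)⁻¹) * (g * val b * (g : G)⁻¹)
    group)

theorem val_smul (g : H) (m : MM H W hc hs hn) : val (g • m) = g * val m * (g : G)⁻¹ := rfl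

instance [Finite G] : Finite (MM H W hc hs hn) := (inferInstance : Finite (Additive W))

/-- the submodule given by `K ≤ G` -/
def sb (K : Subgroup G) : AddSubgroup (MM H W hc hs hn) where
  carrier := {m | val m ∈ K}
  zero_mem' := by change (1 : G) ∈ K; exact one_mem _
  add_mem' := fun {a b} ha hb => by change val a * val b ∈ K; exact mul_mem ha hb
  neg_mem' := fun {a} ha => by change (val a)⁻¹ ∈ K; exact inv_mem ha

theorem mem_sb {K : Subgroup G} {m : MM H W hc hs hn} : m ∈ sb K ↔ val m ∈ K := Iff.rfl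

theorem card_MM : Nat.card (MM H W hc hs hn) = Nat.card W := rfl

end MM

/-! ### the group `L` -/

variable {T V : Subgroup G} {z p q : G} {n : ℕ}

/-- the group generated by the `W_q`, `(p, q)` critical -/
def lg (V : Subgroup G) (n : ℕ) (p : G) : Subgroup G := Subgroup.closure {f | ∃ q, Cr V n p q ∧ f ∈ ws V q}

theorem mem_lg {f : G} (hc : Cr V n p q) (hf : f ∈ ws V q) : f ∈ lg V n p := subset_closure ⟨q, hc, hf⟩

theorem lg_le [Finite G] (h : Wz T V z n) (p : G) : lg V n p ≤ centralizer ({p} : Set G) := by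
  refine (closure_le _).2 ?_
  rintro f ⟨q, hc, hf⟩
  exact h.le_cent hc.symm hf

theorem lg_norm (V : Subgroup G) (n : ℕ) (p : G) : centralizer ({p} : Set G) ≤ normalizer (lg V n p : Set G) := by
  refine le_normalizer_of_forall fun g hg y hy => ?_
  have hgp : g * p * g⁻¹ = p := by
    rw [mem_centralizer_singleton_iff.1 hg]; group
  change y ∈ Subgroup.closure _ at hy
  induction hy using closure_induction with
  | mem f hf =>
    obtain ⟨q, hc, hf⟩ := hf
    have h1 := hc.conj g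
    rw [hgp] at h1
    exact mem_lg h1 (conj_mem_ws g hf)
  | one => rw [mul_one, mul_inv_cancel]; exact one_mem _
  | mul a b _ _ h1 h2 =>
    have e : g * (a * b) * g⁻¹ = (g * a * g⁻¹) * (g * b * g⁻¹) := by group
    rw [e]; exact mul_mem h1 h2
  | inv a _ h1 =>
    have e : g * a⁻¹ * g⁻¹ = (g * a * g⁻¹)⁻¹ := by group
    rw [e]; exact inv_mem h1

theorem nn_norm (V : Subgroup G) (p : G) :
    centralizer ({p} : Set G) ≤ normalizer ((nn (ws V p) (kq V p) : Subgroup G) : Set G) := by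
  refine le_normalizer_of_forall fun g hg w hw => ?_
  obtain ⟨h1, h2⟩ := mem_nn.1 hw
  have hgp : g * p * g⁻¹ = p := by rw [mem_centralizer_singleton_iff.1 hg]; group
  have hgp' : g⁻¹ * p * g = p := by
    have := mem_centralizer_singleton_iff.1 hg
    rw [mul_assoc, ← this, inv_mul_cancel_left]
  refine mem_nn.2 ⟨conj_mem_of_normalizer (centralizer_le_normalizer_ws V p) hg h1, fun k hk => ?_⟩
  have hk' : g⁻¹ * k * g ∈ kq V p := by
    have := conj_mem_kq g⁻¹ hk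
    rwa [inv_inv, hgp'] at this
  have h3 := h2 _ hk'
  calc k * (g * w * g⁻¹) = g * ((g⁻¹ * k * g) * w) * g⁻¹ := by group
    _ = g * (w * (g⁻¹ * k * g)) * g⁻¹ := by rw [h3]
    _ = g * w * g⁻¹ * k := by group

/-- elements of the Sylow group of a flag `(p, {p, x, px})` fix `x` modulo `⟨p⟩` -/
theorem exists_syl [Finite G] (h : Fr T V z) {x : G} (hx : Col V p x) (hxp : x ≠ p) :
    ∃ S : Subgroup G, S ≤ centralizer ({p} : Set G) ∧ IsPGroup 2 S ∧
      ¬ 2 ∣ S.relIndex (centralizer ({p} : Set G)) ∧ (∀ s ∈ S, s * x * s⁻¹ * x⁻¹ ∈ zpowers p) ∧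
      ∀ w ∈ ws V p, (∀ s ∈ S, s * w = w * s) → w ∈ zpowers p := by
  obtain ⟨g, hp, hxg, hp1, hx1⟩ := hx
  obtain ⟨k, hk, hkz, hf⟩ := h.flag hp hp1
  refine ⟨cj k T, hf.ln.T_le, hf.ln.two, hf.ln.T_syl, fun s hs => ?_, fun w hw hws => ?_⟩
  · have h1 : s * x * s⁻¹ ∈ cj g V := conj_mem_of_normalizer hf.ln.T_norm hs hxg
    have hsp := mem_centralizer_singleton_iff.1 (hf.ln.T_le hs)
    have hne : s * x * s⁻¹ ≠ 1 := fun e => hx1 (conj_eq_one_iff.1 e)
    have hne' : s * x * s⁻¹ ≠ p := by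
      intro e
      apply hxp
      calc x = s⁻¹ * (s * x * s⁻¹) * s := by group
        _ = s⁻¹ * (p * s) := by rw [e]; group
        _ = s⁻¹ * (s * p) := by rw [hsp]
        _ = p := by group
    rcases hf.ln.four hp hxg hp1 hx1 (Ne.symm hxp) h1 with e | e | e | e
    · exact absurd e hne
    · exact absurd e hne'
    · rw [e, mul_inv_cancel]; exact one_mem _
    · rw [e, mul_inv_cancel_right]; exact mem_zpowers p
  · have hpp : Col V p p := ⟨g, hp, hp, hp1, hp1⟩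
    have h1 : w ∈ cj k T := by
      have h2 := hf.ln.ws_le_o2
      rw [ws_cj] at h2
      have h3 : o2 (centralizer ({p} : Set G)) ≤ cj k T :=
        MinSimple.VModule.o2_le_of_sylow hf.ln.two hf.ln.T_syl
      exact h3 (h2 hw)
    rcases hf.ln.soc w h1 (h.ws_sq hpp w hw) hws with e | e
    · rw [e]; exact one_mem _
    · rw [e]; exact mem_zpowers p

end NOne

open NOne

/-- the module of the point `p` -/
abbrev Mp {T V : Subgroup G} {z : G} {n : ℕ} (h : Wz T V z n) {p : G} (hp : Col V p p) : Type u :=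
  MM (centralizer ({p} : Set G)) (ws V p) (h.fr.ws_comm hp) (h.fr.ws_sq hp) (centralizer_le_normalizer_ws V p)

namespace Wz

variable {T V : Subgroup G} {z p q : G} {n : ℕ} [Finite G]

/-- the instance -/
theorem sy (h : Wz T V z n) (hp : Col V p p)
    (hN1 : ∀ q, Cr V n p q → ∀ f ∈ ws V q, ∀ w ∈ nn (ws V p) (kq V p), f * w = w * f) :
    Sy (M := Mp h hp) ((lg V n p).subgroupOf (centralizer ({p} : Set G)))
      (sb (nn (ws V p) (kq V p))) (sb (zpowers p)) {m | Col V p (val m) ∧ val m ≠ p} where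
  Ln g y hy := by
    rw [mem_subgroupOf] at hy ⊢
    exact conj_mem_of_normalizer (lg_norm V n p) g.2 hy
  LN y hy m hm := by
    apply val_inj
    rw [val_smul]
    have h1 : lg V n p ≤ centralizer ((nn (ws V p) (kq V p) : Subgroup G) : Set G) := by
      refine (closure_le _).2 ?_
      rintro f ⟨q, hc, hf⟩
      rw [SetLike.mem_coe, mem_centralizer_iff]
      exact fun w hw => (hN1 q hc f hf w hw).symm
    exact conj_eq_of_comm (mem_centralizer_iff.1 (h1 (mem_subgroupOf.1 hy)) _ hm).symm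
  HN g m hm := conj_mem_of_normalizer (nn_norm V p) g.2 hm
  HP g m hm := by
    rw [mem_sb, val_smul]
    obtain ⟨i, hi⟩ := mem_zpowers_iff.1 (mem_sb.1 hm)
    rw [← hi, ← conj_zpow]
    have : (g : G) * p * (g : G)⁻¹ = p := by rw [mem_centralizer_singleton_iff.1 g.2]; group
    rw [this]
    exact zpow_mem (mem_zpowers p) i
  PN := by
    intro m hm
    have h1 : zpowers p ≤ nn (ws V p) (kq V p) := by
      rw [zpowers_le]
      exact (h.fr.dw hp).q_mem_nn
    exact h1 hm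
  HL g m hm := by
    have hgp : (g : G) * p * (g : G)⁻¹ = p := by rw [mem_centralizer_singleton_iff.1 g.2]; group
    refine ⟨?_, fun e => hm.2 ?_⟩
    · have := hm.1.conj (g : G)
      rwa [hgp] at this
    · rw [val_smul] at e
      calc val m = (g : G)⁻¹ * (g * val m * (g : G)⁻¹) * g := by group
        _ = (g : G)⁻¹ * (g * p * (g : G)⁻¹) * g := by rw [e, hgp]
        _ = p := by group
  trans v hv w hw := by
    obtain ⟨g, hg1, hg2⟩ := TypeN.exists_conj_flag h.fr hv.1 hv.2 hw.1 hw.2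
    have hg : g ∈ centralizer ({p} : Set G) := by
      rw [mem_centralizer_singleton_iff]
      exact mul_inv_eq_iff_eq_mul.1 hg1
    exact ⟨⟨g, hg⟩, val_inj hg2⟩
  LaN v hv hvN := by
    obtain ⟨g, hp', hx, hp1, hx1⟩ := hv.1
    obtain ⟨k, hk, -, hk2⟩ := h.fr.mover_cj hp' hp1
    have h1 := hk2 _ hx hx1 hv.2
    have h2 := (mem_nn.1 (mem_sb.1 hvN)).2 k hk
    rw [conj_eq_of_comm h2] at h1
    exact hp1 (by simpa using h1.symm)
  syl v hv := by
    obtain ⟨S, hS1, hS2, hS3, hS4, -⟩ := exists_syl h.fr hv.1 hv.2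
    refine ⟨(S ⊓ lg V n p).subgroupOf (centralizer ({p} : Set G)), comap_mono inf_le_right, ?_, fun s hs => ?_⟩
    · rw [relIndex_subgroupOf (lg_le h p), inf_relIndex_right]
      exact not_dvd_relIndex_of_normal hS1 hS2 hS3 (lg_le h p) (lg_norm V n p)
    · rw [mem_sb, val_sub, val_smul]
      exact hS4 _ hs.1

end Wz

/-! ### movers -/

open Cfsg.Agent.Omega.NO3S.TwoMid.Alpha (Iv exists_iv pow_four')

/-- `(p, q)` critical, `r` the neighbour of `p` on a geodesic, on the line `cj g V` -/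
structure St (V : Subgroup G) (m : ℕ) (p q r g : G) : Prop where
  cr : Cr V (m + 1) p q
  pth : Pth V m q r
  pg : p ∈ cj g V
  rg : r ∈ cj g V
  p1 : p ≠ 1
  r1 : r ≠ 1
  rp : r ≠ p
  ho2 : ws V q ≤ o2 (centralizer ((cj g V : Subgroup G) : Set G))

theorem exists_st [Finite G] {T V : Subgroup G} {z : G} (h : Fr T V z) {m : ℕ} {p q : G} (hc : Cr V (m + 1) p q) :
    ∃ r g, St V m p q r g := by
  obtain ⟨r, g, h1, h2, h3, h4, h5, h6, h7⟩ := hc.symm.last h
  exact ⟨r, g, hc, h1, h3, h2, h5, h4, h6, h7⟩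

namespace St

variable {T V : Subgroup G} {z p q r g : G} {m : ℕ}

theorem col (s : St V m p q r g) : Col V p r := ⟨g, s.pg, s.rg, s.p1, s.r1⟩

theorem pp (s : St V m p q r g) : Col V p p := s.col.left

theorem rr (s : St V m p q r g) : Col V r r := s.col.right

variable [Finite G]

/-- `W_q` centralises `W_r` -/
theorem com (s : St V m p q r g) : ws V q ≤ centralizer (ws V r : Set G) := by
  intro a ha
  rw [mem_centralizer_iff]
  intro b hb
  exact (s.cr.min m (by omega) q r s.pth a ha b hb).symm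

theorem cent_r (h : Fr T V z) (s : St V m p q r g) {c : G} (hc : c ∈ centralizer (ws V r : Set G)) : c * r = r * c :=
  (mem_centralizer_iff.1 hc r (h.mem_ws_self s.rr)).symm

theorem cent_p (h : Fr T V z) (s : St V m p q r g) {c : G} (hc : c ∈ centralizer (ws V r : Set G)) : c * p = p * c :=
  (mem_centralizer_iff.1 hc p (h.mem_ws_of_col s.col.symm)).symm

/-- (LIFT) -/
theorem eq_one (h : Fr T V z) (s : St V m p q r g) {f u : G} (hf : f ∈ ws V q) (i : Iv p f u)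
    (hr : u * r * u⁻¹ = r ∨ u * r * u⁻¹ = p * r) : u = 1 := by
  have hpp : p * p = 1 := h.pt_sq s.pp
  have h2 : u * u * r = r * (u * u) := by
    rcases hr with e | e
    · have h3 := comm_of_conj_eq e
      rw [mul_assoc, h3, ← mul_assoc, h3, mul_assoc]
    · apply comm_of_conj_eq
      calc u * u * r * (u * u)⁻¹ = u * (u * r * u⁻¹) * u⁻¹ := by group
        _ = u * p * (r * u⁻¹) := by rw [e]; group
        _ = p * (u * r * u⁻¹) := by rw [i.cb]; group
        _ = r := by rw [e, ← mul_assoc, hpp, one_mul]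
  have h2' : u * u * p = p * (u * u) := by
    rw [mul_assoc, i.cb, ← mul_assoc, i.cb, mul_assoc]
  obtain ⟨k, hk, -, hfl⟩ := h.flag s.pg s.p1
  have huC : u * u ∈ centralizer ((cj g V : Subgroup G) : Set G) :=
    hfl.mem_centralizer_of s.pg s.p1 s.rg s.r1 s.rp h2' h2
  have hfo := s.ho2 hf
  have h4 : u * u * f * (u * u)⁻¹ * f⁻¹ ∈ o2 (centralizer ((cj g V : Subgroup G) : Set G)) :=
    mul_mem (conj_mem_of_normalizer (MinSimple.VModule.le_normalizer_o2 _) huC hfo) (inv_mem hfo)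
  have hi := i.symm.inv
  rw [inv_inv] at hi
  have h5 : u * u * f * (u * u)⁻¹ * f⁻¹ = u ^ 4 := by
    calc u * u * f * (u * u)⁻¹ * f⁻¹ = u * u * (f * u⁻¹ * f⁻¹) * (f * u⁻¹ * f⁻¹) := by group
      _ = u ^ 4 := by rw [hi, pow_four']
  rw [h5] at h4
  obtain ⟨n, hn⟩ := MinSimple.VModule.o2_isPGroup (centralizer ((cj g V : Subgroup G) : Set G)) ⟨u ^ 4, h4⟩
  have h6 : u ^ (4 * 2 ^ n) = 1 := by
    rw [pow_mul]
    exact congrArg Subtype.val hn
  have h7 : orderOf u ∣ 4 * 2 ^ n := orderOf_dvd_of_pow_eq_one h6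
  have h8 : Nat.Coprime (orderOf u) (4 * 2 ^ n) := by
    have : 4 * 2 ^ n = 2 ^ (n + 2) := by rw [pow_add]; ring
    rw [this]
    exact Nat.Coprime.pow_right _ (Nat.coprime_two_right.2 i.odd)
  exact orderOf_eq_one_iff.mp (Nat.eq_one_of_dvd_coprimes h8 dvd_rfl h7)

end St

/-- an element of odd order with square in `K` -/
theorem mem_of_sq {K : Subgroup G} {u : G} (ho : Odd (orderOf u)) (h : u * u ∈ K) : u ∈ K := by
  obtain ⟨j, hj⟩ := exists_pow_eq_self_of_coprime (x := u) (n := 2) (Nat.coprime_two_left.2 ho)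
  rw [← hj]
  exact K.pow_mem (by rwa [pow_two]) j

/-- a mover: `f ∈ W_q`, `h ≠ 1` odd inverted by `f` -/
structure Mr (V : Subgroup G) (m : ℕ) (p q r g f u : G) : Prop extends St V m p q r g where
  f_mem : f ∈ ws V q
  iv : Iv p f u
  ne : u ≠ 1

namespace Mr

variable {T V : Subgroup G} {z p q r g f u : G} {m : ℕ} [Finite G]

theorem ff (h : Fr T V z) (s : Mr V m p q r g f u) : f * f = 1 := h.ws_sq s.cr.path.right f s.f_mem

theorem fr (h : Fr T V z) (s : Mr V m p q r g f u) : f * r = r * f := s.cent_r h (s.com s.f_mem)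

theorem fp (h : Fr T V z) (s : Mr V m p q r g f u) : f * p = p * f := s.cent_p h (s.com s.f_mem)

theorem up (s : Mr V m p q r g f u) : u * p * u⁻¹ = p := by rw [s.iv.cb, mul_inv_cancel_right]

theorem up' (s : Mr V m p q r g f u) : u⁻¹ * p * u = p := by rw [mul_assoc, ← s.iv.cb, inv_mul_cancel_left]

theorem uC (s : Mr V m p q r g f u) : u ∈ centralizer ({p} : Set G) := mem_centralizer_singleton_iff.2 s.iv.cb

/-- `u ∈ L` -/
theorem u_mem (s : Mr V m p q r g f u) : u ∈ lg V (m + 1) p := by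
  refine mem_of_sq s.iv.odd ?_
  have hf : f ∈ lg V (m + 1) p := mem_lg s.cr s.f_mem
  have h1 : f * (u⁻¹ * f⁻¹ * u⁻¹⁻¹) ∈ lg V (m + 1) p :=
    mul_mem hf (conj_mem_of_normalizer (lg_norm V (m + 1) p) (inv_mem s.uC) (inv_mem hf))
  have hi := s.iv.symm.inv
  rw [inv_inv] at hi
  have e : f * (u⁻¹ * f⁻¹ * u⁻¹⁻¹) = u * u := by
    calc f * (u⁻¹ * f⁻¹ * u⁻¹⁻¹) = (f * u⁻¹ * f⁻¹) * u := by group
      _ = u * u := by rw [hi]
  rwa [e] at h1

theorem colx (s : Mr V m p q r g f u) : Col V p (u * r * u⁻¹) := by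
  have := s.col.conj u
  rwa [s.up] at this

theorem colx' (s : Mr V m p q r g f u) : Col V p (u⁻¹ * r * u) := by
  have := s.col.conj u⁻¹
  rwa [inv_inv, s.up'] at this

theorem xf (h : Fr T V z) (s : Mr V m p q r g f u) : f * (u * r * u⁻¹) * f⁻¹ = u⁻¹ * r * u := by
  have h1 := s.iv.inv
  have h2 := s.iv.symm.inv
  rw [inv_inv] at h2
  have h3 : f * r * f⁻¹ = r := by rw [s.fr h, mul_inv_cancel_right]
  calc f * (u * r * u⁻¹) * f⁻¹ = (f * u * f⁻¹) * (f * r * f⁻¹) * (f * u⁻¹ * f⁻¹) := by group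
    _ = u⁻¹ * r * u := by rw [h1, h2, h3]

theorem x_ne_p (s : Mr V m p q r g f u) : u * r * u⁻¹ ≠ p := by
  intro e
  apply s.rp
  calc r = u⁻¹ * (u * r * u⁻¹) * u := by group
    _ = p := by rw [e, s.up']

theorem x'_ne_p (s : Mr V m p q r g f u) : u⁻¹ * r * u ≠ p := by
  intro e
  apply s.rp
  calc r = u * (u⁻¹ * r * u) * u⁻¹ := by group
    _ = p := by rw [e, s.up]

theorem fx_ne (h : Fr T V z) (s : Mr V m p q r g f u) : f * (u * r * u⁻¹) * f⁻¹ ≠ u * r * u⁻¹ := by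
  rw [s.xf h]
  intro e
  have h1 : (u * u) * r * (u * u)⁻¹ = r := by
    calc (u * u) * r * (u * u)⁻¹ = u * (u * r * u⁻¹) * u⁻¹ := by group
      _ = u * (u⁻¹ * r * u) * u⁻¹ := by rw [e]
      _ = r := by group
  have hp2 : Iv p f (u * u) := by
    have := s.iv.pow 2
    rwa [pow_two] at this
  have h2 := s.eq_one h s.f_mem hp2 (Or.inl h1)
  exact s.ne (by
    have : u ∈ (⊥ : Subgroup G) := mem_of_sq s.iv.odd (by rw [h2]; exact one_mem _)
    exact mem_bot.1 this)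

/-- (D) fails -/
theorem notD (h : Wz T V z (m + 1)) (s : Mr V m p q r g f u) :
    ¬ (ws V (u * r * u⁻¹) ⊓ ws V (u⁻¹ * r * u) ≤ ws V p) := by
  have := h.noD p q r s.cr s.col s.rp s.pth.symm f u s.f_mem s.iv.cb s.iv.odd s.iv.inv s.ne (s.fx_ne h.fr)
  rwa [s.xf h.fr] at this

/-- `u` centralises `W_x ∩ W_{x'}`, so `W_x ∩ W_{x'} ≤ W_r` -/
theorem inf_le (h : Fr T V z) (s : Mr V m p q r g f u) :
    ws V (u * r * u⁻¹) ⊓ ws V (u⁻¹ * r * u) ≤ ws V r := by
  intro d hd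
  have hfc := s.com s.f_mem
  have h1 : (u * f * u⁻¹) * d = d * (u * f * u⁻¹) := by
    have h2 : u⁻¹ * d * u ∈ ws V r := by
      have := conj_mem_ws u⁻¹ hd.1
      have e : u⁻¹ * (u * r * u⁻¹) * u⁻¹⁻¹ = r := by group
      rwa [e, inv_inv] at this
    have h3 := mem_centralizer_iff.1 hfc _ h2
    calc (u * f * u⁻¹) * d = u * (f * (u⁻¹ * d * u)) * u⁻¹ := by group
      _ = u * ((u⁻¹ * d * u) * f) * u⁻¹ := by rw [h3]
      _ = d * (u * f * u⁻¹) := by group
  have h1' : (u⁻¹ * f * u) * d = d * (u⁻¹ * f * u) := by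
    have h2 : u * d * u⁻¹ ∈ ws V r := by
      have := conj_mem_ws u hd.2
      have e : u * (u⁻¹ * r * u) * u⁻¹ = r := by group
      rwa [e] at this
    have h3 := mem_centralizer_iff.1 hfc _ h2
    calc (u⁻¹ * f * u) * d = u⁻¹ * (f * (u * d * u⁻¹)) * u := by group
      _ = u⁻¹ * ((u * d * u⁻¹) * f) * u := by rw [h3]
      _ = d * (u⁻¹ * f * u) := by group
  -- `u⁴ = (u f u⁻¹) (u⁻¹ f u)`
  have hi := s.iv.symm.inv
  rw [inv_inv] at hi
  have e4 : (u * f * u⁻¹) * (u⁻¹ * f * u) = (u * u) * (u * u) := by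
    calc (u * f * u⁻¹) * (u⁻¹ * f * u) = u * (f * u⁻¹ * f⁻¹) * (f * u⁻¹ * f⁻¹) * (f * f) * u := by group
      _ = (u * u) * (u * u) := by rw [hi, s.ff h, mul_one]; group
  have h5 : (u * u) * (u * u) ∈ centralizer ({d} : Set G) := by
    rw [← e4]
    exact mul_mem (mem_centralizer_singleton_iff.2 h1) (mem_centralizer_singleton_iff.2 h1')
  have hodd : Odd (orderOf (u * u)) := by
    have := (s.iv.pow 2).odd
    rwa [pow_two] at this
  have h6 : u ∈ centralizer ({d} : Set G) := mem_of_sq s.iv.odd (mem_of_sq hodd h5)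
  have h7 : u⁻¹ * d * u = d := by
    have := mem_centralizer_singleton_iff.1 h6
    rw [mul_assoc, ← this, inv_mul_cancel_left]
  have h8 := conj_mem_ws u⁻¹ hd.1
  have e : u⁻¹ * (u * r * u⁻¹) * u⁻¹⁻¹ = r := by group
  rw [e, inv_inv, h7] at h8
  exact h8

end Mr

/-! ### (S) for movers -/

/-- membership in `⟨X, Y⟩ K` in the language of the module -/
theorem exists_coef {H W : Subgroup G} {hc : ∀ a ∈ W, ∀ b ∈ W, a * b = b * a} {hs : ∀ a ∈ W, a * a = 1}
    {hn : H ≤ normalizer (W : Set G)} {K : Subgroup G} (hK : K ≤ W) {X Y w : MM H W hc hs hn}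
    (hw : val w ∈ Subgroup.closure {val X, val Y} ⊔ K) : ∃ a b : ZMod 2, w - (a • X + b • Y) ∈ sb K := by
  have hle : Subgroup.closure ({val X, val Y} : Set G) ≤ W := by
    rw [closure_le]
    rintro y (rfl | rfl)
    · exact val_mem X
    · exact val_mem Y
  obtain ⟨c, hcm, k, hk, e⟩ := Dual.mem_sup_of_comm hc hle hK hw
  have h1 : ∃ a b : ZMod 2, c = val (a • X + b • Y) := by
    clear e hw
    induction hcm using closure_induction with
    | mem x hx =>
      rcases hx with rfl | rfl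
      · exact ⟨1, 0, by rw [one_smul, zero_smul, add_zero]⟩
      · exact ⟨0, 1, by rw [one_smul, zero_smul, zero_add]⟩
    | one => exact ⟨0, 0, by rw [zero_smul, zero_smul, add_zero]; rfl⟩
    | mul x y _ _ h1 h2 =>
      obtain ⟨a, b, rfl⟩ := h1
      obtain ⟨a', b', rfl⟩ := h2
      refine ⟨a + a', b + b', ?_⟩
      rw [← val_add]
      congr 1
      module
    | inv x _ h1 =>
      obtain ⟨a, b, rfl⟩ := h1
      refine ⟨a, b, ?_⟩
      rw [← val_neg, neg_self']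
  obtain ⟨a, b, rfl⟩ := h1
  refine ⟨a, b, ?_⟩
  rw [mem_sb, val_sub, e, hc _ (val_mem _) _ (hK hk), mul_inv_cancel_right]
  exact hk

namespace Mr

variable {T V : Subgroup G} {z p q r g f u : G} {m : ℕ} [Finite G]

/-- `r` as an element of the module -/
def vr (h : Wz T V z (m + 1)) (s : St V m p q r g) : Mp h s.pp := NOne.mk r (h.fr.mem_ws_of_col s.col)

theorem ss (h : Wz T V z (m + 1)) (s : Mr V m p q r g f u) :
    SS ((centralizer (ws V r : Set G)).subgroupOf (centralizer ({p} : Set G)))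
      (sb (nn (ws V p) (kq V p))) (vr h s.toSt) ⟨u, s.uC⟩ := by
  intro c hc
  -- `c ∈ G*`
  have h1 : (c : G) ∈ centralizer (ws V (u * r * u⁻¹) : Set G) ⊔ centralizer (ws V (u⁻¹ * r * u) : Set G) := by
    have hle : Subgroup.closure ({x | ∃ c ∈ (centralizer (ws V r : Set G)).subgroupOf (centralizer ({p} : Set G)),
          x = (⟨u, s.uC⟩ : ↥(centralizer ({p} : Set G))) * c * (⟨u, s.uC⟩ : ↥(centralizer ({p} : Set G)))⁻¹} ∪
        {x | ∃ c ∈ (centralizer (ws V r : Set G)).subgroupOf (centralizer ({p} : Set G)),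
          x = (⟨u, s.uC⟩ : ↥(centralizer ({p} : Set G)))⁻¹ * c * (⟨u, s.uC⟩ : ↥(centralizer ({p} : Set G)))}) ≤
        (centralizer (ws V (u * r * u⁻¹) : Set G) ⊔ centralizer (ws V (u⁻¹ * r * u) : Set G)).comap
          (centralizer ({p} : Set G)).subtype := by
      rw [closure_le]
      rintro x (⟨c, hc, rfl⟩ | ⟨c, hc, rfl⟩)
      · refine mem_sup_left ?_
        change u * (c : G) * u⁻¹ ∈ centralizer (ws V (u * r * u⁻¹) : Set G)
        have hc' := mem_centralizer_iff.1 (mem_subgroupOf.1 hc)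
        rw [mem_centralizer_iff]
        intro w hw
        have h2 : u⁻¹ * w * u ∈ ws V r := by
          have := conj_mem_ws u⁻¹ hw
          have e : u⁻¹ * (u * r * u⁻¹) * u⁻¹⁻¹ = r := by group
          rwa [e, inv_inv] at this
        calc w * (u * (c : G) * u⁻¹) = u * ((u⁻¹ * w * u) * c) * u⁻¹ := by group
          _ = u * (c * (u⁻¹ * w * u)) * u⁻¹ := by rw [hc' _ h2]
          _ = u * (c : G) * u⁻¹ * w := by group
      · refine mem_sup_right ?_
        change u⁻¹ * (c : G) * u ∈ centralizer (ws V (u⁻¹ * r * u) : Set G)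
        have hc' := mem_centralizer_iff.1 (mem_subgroupOf.1 hc)
        rw [mem_centralizer_iff]
        intro w hw
        have h2 : u * w * u⁻¹ ∈ ws V r := by
          have := conj_mem_ws u hw
          have e : u * (u⁻¹ * r * u) * u⁻¹ = r := by group
          rwa [e] at this
        calc w * (u⁻¹ * (c : G) * u) = u⁻¹ * ((u * w * u⁻¹) * c) * u := by group
          _ = u⁻¹ * (c * (u * w * u⁻¹)) * u := by rw [hc' _ h2]
          _ = u⁻¹ * (c : G) * u * w := by group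
    exact hle hc
  obtain ⟨h2, h3⟩ := (h.fr.lemD s.colx s.colx' s.x_ne_p s.x'_ne_p).resolve_left (s.notD h) _ h1
  have hN : nn (ws V p) (kq V p) ≤ ws V p := fun w hw => (mem_nn.1 hw).1
  have e1 : val ((⟨u, s.uC⟩ : ↥(centralizer ({p} : Set G))) • vr h s.toSt) = u * r * u⁻¹ := rfl
  have e2 : val ((⟨u, s.uC⟩ : ↥(centralizer ({p} : Set G)))⁻¹ • vr h s.toSt) = u⁻¹ * r * u := by
    change u⁻¹ * r * u⁻¹⁻¹ = _
    rw [inv_inv]
  refine ⟨exists_coef hN ?_, exists_coef hN ?_⟩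
  · rw [e1, e2, val_smul, e1]; exact h2
  · rw [e1, e2, val_smul, e2]; exact h3

end Mr

open Mr (vr)

section main

variable {T V : Subgroup G} {z p q r g : G} {m : ℕ} [Finite G]

/-- the hypothesis (N1) at the point `p` -/
def NOneAt (V : Subgroup G) (n : ℕ) (p : G) : Prop :=
  ∀ q, Cr V n p q → ∀ f ∈ ws V q, ∀ w ∈ nn (ws V p) (kq V p), f * w = w * f

/-- every element of `W_q - C(W_p)` gives a mover -/
theorem exists_mr (h : Wz T V z (m + 1)) (s : St V m p q r g) {f : G} (hf : f ∈ ws V q)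
    (hfp : ¬ ∀ w ∈ ws V p, f * w = w * f) : ∃ u, Mr V m p q r g f u := by
  have hfC : f * p = p * f := s.cent_p h.fr (s.com hf)
  obtain ⟨u, hi, hu⟩ := exists_iv h.fr s.pp hfC (h.fr.ws_sq s.cr.path.right f hf) fun hk =>
    hfp (h.kq_cent s.cr hf hk)
  exact ⟨u, s, hf, hi, hu⟩

/-- `u r u⁻¹` is not in `r N_p` -/
theorem Mr.nmem (h : Wz T V z (m + 1)) {f u : G} (s : Mr V m p q r g f u) (hN1 : NOneAt V (m + 1) p) :
    (⟨u, s.uC⟩ : ↥(centralizer ({p} : Set G))) • vr h s.toSt - vr h s.toSt ∉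
      (sb (nn (ws V p) (kq V p)) : AddSubgroup (Mp h s.pp)) := by
  intro h0
  have h1 := (h.sy s.pp hN1).ul (v := vr h s.toSt) ⟨s.col, s.rp⟩
    (y := ⟨u, s.uC⟩) (mem_subgroupOf.2 s.u_mem) h0
  rw [mem_sb, val_sub, val_smul] at h1
  have h2 : u * r * u⁻¹ * r⁻¹ ∈ zpowers p := h1
  apply s.ne
  refine s.eq_one h.fr s.f_mem s.iv ?_
  rcases (mem_zpowers_iff_of_mul_self (h.fr.pt_sq s.pp)).mp h2 with e | e
  · left; exact mul_inv_eq_one.1 e
  · right; exact mul_inv_eq_iff_eq_mul.1 e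

/-- **(1)**: the elements of `W_q` act as transvections with centre `r` modulo `N_p` -/
theorem exists_tv' (h : Wz T V z (m + 1)) (s : St V m p q r g) (hN1 : NOneAt V (m + 1) p) {f : G}
    (hf : f ∈ ws V q) (hfC : f ∈ centralizer ({p} : Set G)) :
    ∃ φ : Module.Dual (ZMod 2) (Mp h s.pp), Tv (sb (nn (ws V p) (kq V p))) (⟨f, hfC⟩ : ↥(centralizer ({p} : Set G))) φ
      (vr h s) := by
  have hsy := h.sy s.pp hN1
  have hv : vr h s ∉ (sb (nn (ws V p) (kq V p)) : AddSubgroup (Mp h s.pp)) := hsy.LaN _ ⟨s.col, s.rp⟩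
  refine exists_tv hv ?_
  have hqC : ws V q ≤ centralizer ({p} : Set G) := h.le_cent s.cr.symm
  have hce : ce V q p ≤ centralizer ({p} : Set G) := fun x hx => hqC (mem_ce.1 hx).1
  refine tv_of hsy.HN (A := (ws V q).subgroupOf (centralizer ({p} : Set G)))
    (A0 := (ce V q p).subgroupOf (centralizer ({p} : Set G)))
    (C := (centralizer (ws V r : Set G)).subgroupOf (centralizer ({p} : Set G))) hv
    (fun a ha => s.com (mem_subgroupOf.1 ha)) (fun c hc => ?_) (fun a ha => ?_) ?_ (fun a ha ha0 => ?_)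
    ⟨f, hfC⟩ (mem_subgroupOf.2 hf)
  · apply val_inj
    rw [val_smul]
    exact conj_eq_of_comm (s.cent_r h.fr (mem_subgroupOf.1 hc))
  · exact Subtype.ext (h.fr.ws_sq s.cr.path.right _ (mem_subgroupOf.1 ha))
  · -- the count
    have e1 : Nat.card ((ws V q).subgroupOf (centralizer ({p} : Set G))) = Nat.card (ws V q) :=
      Nat.card_congr (subgroupOfEquivOfLe hqC).toEquiv
    have e2 : Nat.card ((ce V q p).subgroupOf (centralizer ({p} : Set G))) = Nat.card (ce V q p) :=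
      Nat.card_congr (subgroupOfEquivOfLe hce).toEquiv
    have e3 : Nat.card (ce V p q) ≤ Nat.card (cA ((ws V q).subgroupOf (centralizer ({p} : Set G)))
        (⊥ : AddSubgroup (Mp h s.pp))) := by
      refine Nat.card_le_card_of_injective (fun w => ⟨NOne.mk (w : G) (mem_ce.1 w.2).1, fun a ha => ?_⟩) ?_
      · rw [AddSubgroup.mem_bot, sub_eq_zero]
        apply val_inj
        rw [val_smul]
        exact conj_eq_of_comm ((mem_ce.1 w.2).2 _ (mem_subgroupOf.1 ha)).symm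
      · intro w w' e
        have h1 := congrArg (fun x => val x.1) e
        exact Subtype.ext h1
    have e4 : Nat.card (Mp h s.pp) = Nat.card (ws V p) := rfl
    have h1 : Nat.card (ce V q p) * (ce V q p).relIndex (ws V q) = Nat.card (ws V q) :=
      Dual.card_mul_relIndex_of_le fun x hx => (mem_ce.1 hx).1
    have h2 : Nat.card (ce V p q) * (ce V p q).relIndex (ws V p) = Nat.card (ws V p) :=
      Dual.card_mul_relIndex_of_le fun x hx => (mem_ce.1 hx).1
    rw [e1, e2, e4]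
    refine le_trans (le_of_eq ?_) (Nat.mul_le_mul_left _ e3)
    rw [← h1, ← h2, h.exact s.cr]
    ring
  · have haf := mem_subgroupOf.1 ha
    obtain ⟨u, hu⟩ := exists_mr h s haf fun h0 => ha0 (mem_subgroupOf.2 (mem_ce.2 ⟨haf, h0⟩))
    refine ⟨⟨u, hu.uC⟩, ?_, Subtype.ext hu.iv.inv, hu.nmem h hN1, hu.ss h⟩
    rw [← Subgroup.orderOf_coe]
    exact hu.iv.odd

/-- an element of `K_p` with prescribed signs on `x`, `x'` -/
theorem exists_corr (h : Fr T V z) (hp : Col V p p) {x x' : G} (hx : x ∈ ws V p) (hx' : x' ∈ ws V p)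
    (hxN : x ∉ nn (ws V p) (kq V p)) (hxN' : x' ∉ nn (ws V p) (kq V p)) (hxx : x * x' ∉ nn (ws V p) (kq V p))
    {c : G} (h1 : c * x * c⁻¹ = x ∨ c * x * c⁻¹ = p * x) (h2 : c * x' * c⁻¹ = x' ∨ c * x' * c⁻¹ = p * x') :
    ∃ k ∈ kq V p, (k * c) * x * (k * c)⁻¹ = x ∧ (k * c) * x' * (k * c)⁻¹ = x' := by
  have hpp := h.pt_sq hp
  -- an element of `K_p` fixing `y` and moving `y'`
  have key : ∀ y ∈ ws V p, ∀ y' ∈ ws V p, y' ∉ nn (ws V p) (kq V p) → y * y' ∉ nn (ws V p) (kq V p) →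
      ∃ k ∈ kq V p, k * y = y * k ∧ k * y' * k⁻¹ = p * y' := by
    intro y hy y' hy' hy'N hyy
    by_contra hcon
    push Not at hcon
    have h3 : y' ∈ closure ({y} : Set G) ⊔ nn (ws V p) (kq V p) := by
      refine (h.dw hp).dual ((closure_le _).2 (by rintro _ rfl; exact hy)) hy' fun k hk hkU => ?_
      rcases h.kq_cases' hp hk hy' with e | e
      · exact comm_of_conj_eq e
      · exact absurd e (hcon k hk (hkU y (subset_closure rfl)))
    obtain ⟨a, ha, b, hb, e⟩ := Dual.mem_sup_of_comm (W := ws V p) (h.ws_comm hp)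
      ((closure_le _).2 (by rintro _ rfl; exact hy)) (fun w hw => (mem_nn.1 hw).1) h3
    rw [← zpowers_eq_closure] at ha
    rcases (mem_zpowers_iff_of_mul_self (h.ws_sq hp y hy)).mp ha with rfl | rfl
    · rw [one_mul] at e
      rw [e] at hy'N
      exact hy'N hb
    · apply hyy
      rw [e, ← mul_assoc, h.ws_sq hp a hy, one_mul]
      exact hb
  have hcx : c * x * c⁻¹ ∈ ws V p := by
    rcases h1 with e | e
    · rw [e]; exact hx
    · rw [e]; exact mul_mem (h.mem_ws_self hp) hx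
  have hkp : ∀ k ∈ kq V p, k * p * k⁻¹ = p := fun k hk => conj_eq_of_comm (mem_centralizer_singleton_iff.1
    (kq_le_centralizer V p hk))
  have hmul : ∀ k y : G, k * (p * y) * k⁻¹ = (k * p * k⁻¹) * (k * y * k⁻¹) := fun k y => by group
  have hass : ∀ k y : G, (k * c) * y * (k * c)⁻¹ = k * (c * y * c⁻¹) * k⁻¹ := fun k y => by group
  rcases h1 with e1 | e1 <;> rcases h2 with e2 | e2
  · exact ⟨1, one_mem _, by rw [one_mul]; exact e1, by rw [one_mul]; exact e2⟩
  · obtain ⟨k, hk, hk1, hk2⟩ := key x hx x' hx' hxN' hxx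
    refine ⟨k, hk, ?_, ?_⟩
    · rw [hass, e1, conj_eq_of_comm hk1]
    · rw [hass, e2, hmul, hkp k hk, hk2, ← mul_assoc, hpp, one_mul]
  · obtain ⟨k, hk, hk1, hk2⟩ := key x' hx' x hx hxN (by rw [h.ws_comm hp x' hx' x hx]; exact hxx)
    refine ⟨k, hk, ?_, ?_⟩
    · rw [hass, e1, hmul, hkp k hk, hk2, ← mul_assoc, hpp, one_mul]
    · rw [hass, e2, conj_eq_of_comm hk1]
  · obtain ⟨k, hk, hk1, hk2⟩ := key x hx x' hx' hxN' hxx
    obtain ⟨l, hl, hl1, hl2⟩ := key x' hx' x hx hxN (by rw [h.ws_comm hp x' hx' x hx]; exact hxx)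
    have hassl : ∀ y : G, (l * k) * (p * y) * (l * k)⁻¹ = p * (l * (k * y * k⁻¹) * l⁻¹) := by
      intro y
      have e : (l * k) * (p * y) * (l * k)⁻¹ = l * ((k * p * k⁻¹) * (k * y * k⁻¹)) * l⁻¹ := by group
      rw [e, hkp k hk, hmul, hkp l hl]
    refine ⟨l * k, mul_mem hl hk, ?_, ?_⟩
    · rw [hass, e1, hassl, conj_eq_of_comm hk1, hl2, ← mul_assoc, hpp, one_mul]
    · rw [hass, e2, hassl, hk2, hmul, hkp l hl, conj_eq_of_comm hl1, ← mul_assoc, hpp, one_mul]

/-- the mover as a datum for `nu_const` -/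
theorem Mr.mv (h : Wz T V z (m + 1)) {f u : G} (s : Mr V m p q r g f u) (hN1 : NOneAt V (m + 1) p)
    (hfC : f ∈ centralizer ({p} : Set G)) :
    Sy.Mv ((lg V (m + 1) p).subgroupOf (centralizer ({p} : Set G))) (sb (nn (ws V p) (kq V p))) (sb (zpowers p))
      {m | Col V p (val m) ∧ val m ≠ p} (vr h s.toSt)
      ((⟨u, s.uC⟩ : ↥(centralizer ({p} : Set G))) • vr h s.toSt) (⟨f, hfC⟩ : ↥(centralizer ({p} : Set G))) := by
  have hsy := h.sy s.pp hN1
  have hv : vr h s.toSt ∉ (sb (nn (ws V p) (kq V p)) : AddSubgroup (Mp h s.pp)) := hsy.LaN _ ⟨s.col, s.rp⟩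
  refine ⟨mem_subgroupOf.2 (mem_lg s.cr s.f_mem), ?_, ⟨s.colx, s.x_ne_p⟩, ⟨⟨u, s.uC⟩, mem_subgroupOf.2 s.u_mem,
    by rw [sub_self]; exact zero_mem _⟩⟩
  obtain ⟨φ, hφ⟩ := exists_tv' h s.toSt hN1 s.f_mem hfC
  refine ⟨φ, hφ, ?_⟩
  by_contra hne
  have h0 : φ ((⟨u, s.uC⟩ : ↥(centralizer ({p} : Set G))) • vr h s.toSt) = 0 := (zcases _).resolve_right hne
  obtain ⟨n, hn, e⟩ := hφ ((⟨u, s.uC⟩ : ↥(centralizer ({p} : Set G))) • vr h s.toSt)
  rw [h0, zero_smul, add_zero] at e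
  have e1 : (⟨f, hfC⟩ : ↥(centralizer ({p} : Set G))) • ((⟨u, s.uC⟩ : ↥(centralizer ({p} : Set G))) • vr h s.toSt) =
      (⟨u, s.uC⟩ : ↥(centralizer ({p} : Set G)))⁻¹ • vr h s.toSt := by
    apply val_inj
    change f * (u * r * u⁻¹) * f⁻¹ = u⁻¹ * r * u⁻¹⁻¹
    rw [s.xf h.fr, inv_inv]
  rw [e1] at e
  have hodd : Odd (orderOf (⟨u, s.uC⟩ : ↥(centralizer ({p} : Set G)))) := by
    rw [← Subgroup.orderOf_coe]
    exact s.iv.odd
  obtain ⟨h3, -⟩ := (s.ss h).out hsy.HN hv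
    (C := (centralizer (ws V r : Set G)).subgroupOf (centralizer ({p} : Set G)))
    (fun c hc => by
      apply val_inj
      rw [val_smul]
      exact conj_eq_of_comm (s.cent_r h.fr (mem_subgroupOf.1 hc)))
    (a := ⟨f, hfC⟩) (s.com s.f_mem) (Subtype.ext (s.ff h.fr)) hodd (Subtype.ext s.iv.inv) (s.nmem h hN1)
  apply hv
  have e2 : vr h s.toSt = (vr h s.toSt + (⟨u, s.uC⟩ : ↥(centralizer ({p} : Set G))) • vr h s.toSt +
      (⟨u, s.uC⟩ : ↥(centralizer ({p} : Set G)))⁻¹ • vr h s.toSt) -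
      (((⟨u, s.uC⟩ : ↥(centralizer ({p} : Set G))) • vr h s.toSt +
        (⟨u, s.uC⟩ : ↥(centralizer ({p} : Set G))) • vr h s.toSt) + n) := by rw [e]; abel
  rw [e2, add_self', zero_add]
  exact sub_mem h3 hn

/-- **(4)**: `ν = 0` -/
theorem Mr.nu (h : Wz T V z (m + 1)) {f u : G} (s : Mr V m p q r g f u) (hN1 : NOneAt V (m + 1) p)
    (hfC : f ∈ centralizer ({p} : Set G)) :
    vr h s.toSt + (⟨u, s.uC⟩ : ↥(centralizer ({p} : Set G))) • vr h s.toSt +
      (⟨f, hfC⟩ : ↥(centralizer ({p} : Set G))) • ((⟨u, s.uC⟩ : ↥(centralizer ({p} : Set G))) • vr h s.toSt) ∈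
        (sb (zpowers p) : AddSubgroup (Mp h s.pp)) := by
  by_contra hcon
  have hsy := h.sy s.pp hN1
  have k := s.mv h hN1 hfC
  have hvΛ : vr h s.toSt ∈ {m : Mp h s.pp | Col V p (val m) ∧ val m ≠ p} := ⟨s.col, s.rp⟩
  set v := vr h s.toSt with hv
  set x := (⟨u, s.uC⟩ : ↥(centralizer ({p} : Set G))) • v with hx
  set t : ↥(centralizer ({p} : Set G)) := ⟨f, hfC⟩ with ht
  set ν := v + x + t • x with hν
  have hνN : ν ∈ (sb (nn (ws V p) (kq V p)) : AddSubgroup (Mp h s.pp)) := hsy.nu_mem k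
  have hvN : v ∉ (sb (nn (ws V p) (kq V p)) : AddSubgroup (Mp h s.pp)) := hsy.LaN _ hvΛ
  have hpp := h.fr.pt_sq s.pp
  -- the elements of `G`
  have evv : val v = r := rfl
  have evx : val x = u * r * u⁻¹ := rfl
  have evt : val (t • x) = u⁻¹ * r * u := s.xf h.fr
  have evν : val ν = r * (u * r * u⁻¹) * (u⁻¹ * r * u) := by
    rw [hν, val_add, val_add, evv, evx, evt]
  -- the Sylow group
  obtain ⟨S, hS1, hS2, hS3, hS4, hS5⟩ := exists_syl h.fr s.col s.rp
  have hw : ∃ s0 ∈ S, s0 * val ν ≠ val ν * s0 := by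
    by_contra hno
    push Not at hno
    exact hcon (hS5 _ (val_mem ν) hno)
  obtain ⟨s0, hs0, hs0ν⟩ := hw
  set s1 : ↥(centralizer ({p} : Set G)) := ⟨s0, hS1 hs0⟩ with hs1
  have hs1v : s1 • v - v ∈ (sb (zpowers p) : AddSubgroup (Mp h s.pp)) := by
    rw [mem_sb, val_sub, val_smul]
    exact hS4 s0 hs0
  obtain ⟨l, hl, hl1, hl2, hl3⟩ := hsy.fix_three hvΛ k hs1v
  -- `s₁ ν = ν p`
  have hsν : s1 • ν ∈ (sb (nn (ws V p) (kq V p)) : AddSubgroup (Mp h s.pp)) := hsy.HN s1 _ hνN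
  have hlν : (l * s1) • ν = s1 • ν := by rw [mul_smul, hsy.LN l hl _ hsν]
  have hνP : (l * s1) • ν - ν ∈ (sb (zpowers p) : AddSubgroup (Mp h s.pp)) := by
    have e : (l * s1) • ν - ν = ((l * s1) • v - v) + ((l * s1) • x - x) + ((l * s1) • (t • x) - t • x) := by
      rw [hν, smul_add, smul_add]; abel
    rw [e]
    exact add_mem (add_mem hl1 hl2) hl3
  have hpow : ∀ {w w' : Mp h s.pp}, w - w' ∈ (sb (zpowers p) : AddSubgroup (Mp h s.pp)) →
      val w = val w' ∨ val w = p * val w' := by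
    intro w w' h1
    rw [mem_sb, val_sub] at h1
    rcases (mem_zpowers_iff_of_mul_self hpp).mp h1 with e | e
    · left; exact mul_inv_eq_one.1 e
    · right; exact mul_inv_eq_iff_eq_mul.1 e
  set c : G := ((l * s1 : ↥(centralizer ({p} : Set G))) : G) with hc
  have hcν : c * val ν * c⁻¹ = p * val ν := by
    rcases hpow hνP with e | e
    · exfalso
      rw [hlν] at e
      exact hs0ν (comm_of_conj_eq e)
    · exact e
  have hcx : c * (u * r * u⁻¹) * c⁻¹ = u * r * u⁻¹ ∨ c * (u * r * u⁻¹) * c⁻¹ = p * (u * r * u⁻¹) := hpow hl2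
  have hcx' : c * (u⁻¹ * r * u) * c⁻¹ = u⁻¹ * r * u ∨ c * (u⁻¹ * r * u) * c⁻¹ = p * (u⁻¹ * r * u) := by
    have := hpow hl3
    rw [evt] at this
    have e : val ((l * s1) • (t • x)) = c * (u⁻¹ * r * u) * c⁻¹ := by rw [val_smul, evt]
    rwa [e] at this
  -- the correction by `K_p`
  have hxW : u * r * u⁻¹ ∈ ws V p := h.fr.mem_ws_of_col s.colx
  have hxW' : u⁻¹ * r * u ∈ ws V p := h.fr.mem_ws_of_col s.colx'
  have hxN : u * r * u⁻¹ ∉ nn (ws V p) (kq V p) := hsy.LaN x k.m_mem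
  have hxN' : u⁻¹ * r * u ∉ nn (ws V p) (kq V p) := by
    have := hsy.LaN (t • x) (hsy.HL t x k.m_mem)
    rw [mem_sb, evt] at this
    exact this
  have hxx : (u * r * u⁻¹) * (u⁻¹ * r * u) ∉ nn (ws V p) (kq V p) := by
    intro h0
    apply hvN
    have h1 : x + t • x ∈ (sb (nn (ws V p) (kq V p)) : AddSubgroup (Mp h s.pp)) := by
      rw [mem_sb, val_add, evx, evt]
      exact h0
    have e : v = ν - (x + t • x) := by rw [hν]; abel
    rw [e]
    exact sub_mem hνN h1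
  obtain ⟨k0, hk0, hk1, hk2⟩ := exists_corr h.fr s.pp hxW hxW' hxN hxN' hxx hcx hcx'
  set d := k0 * c with hd
  have hk0p : k0 * p * k0⁻¹ = p := conj_eq_of_comm (mem_centralizer_singleton_iff.1 (kq_le_centralizer V p hk0))
  have hk0ν : k0 * val ν * k0⁻¹ = val ν := conj_eq_of_comm ((mem_nn.1 hνN).2 k0 hk0)
  have hdν : d * val ν * d⁻¹ = p * val ν := by
    calc d * val ν * d⁻¹ = k0 * (c * val ν * c⁻¹) * k0⁻¹ := by rw [hd]; group
      _ = (k0 * p * k0⁻¹) * (k0 * val ν * k0⁻¹) := by rw [hcν]; group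
      _ = p * val ν := by rw [hk0p, hk0ν]
  have er : r = val ν * (u⁻¹ * r * u)⁻¹ * (u * r * u⁻¹)⁻¹ := by rw [evν]; group
  have hdr : d * r * d⁻¹ = p * r := by
    calc d * r * d⁻¹ = d * (val ν * (u⁻¹ * r * u)⁻¹ * (u * r * u⁻¹)⁻¹) * d⁻¹ := by rw [← er]
      _ = (d * val ν * d⁻¹) * (d * (u⁻¹ * r * u) * d⁻¹)⁻¹ * (d * (u * r * u⁻¹) * d⁻¹)⁻¹ := by group
      _ = p * (val ν * (u⁻¹ * r * u)⁻¹ * (u * r * u⁻¹)⁻¹) := by rw [hdν, hk1, hk2]; group
      _ = p * r := by rw [← er]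
  -- (D) holds
  refine s.notD h fun y hy => ?_
  refine h.fr.inf_mul_le s.col s.rp ⟨s.inf_le h.fr hy, ?_⟩
  have h1 : d⁻¹ * y * d ∈ ws V (u * r * u⁻¹) := by
    have h2 := conj_mem_ws d⁻¹ hy.1
    have e : d⁻¹ * (u * r * u⁻¹) * d⁻¹⁻¹ = u * r * u⁻¹ := by
      conv_lhs => rw [← hk1]
      group
    rwa [e, inv_inv] at h2
  have h1' : d⁻¹ * y * d ∈ ws V (u⁻¹ * r * u) := by
    have h2 := conj_mem_ws d⁻¹ hy.2
    have e : d⁻¹ * (u⁻¹ * r * u) * d⁻¹⁻¹ = u⁻¹ * r * u := by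
      conv_lhs => rw [← hk2]
      group
    rwa [e, inv_inv] at h2
  have h3 := conj_mem_ws d (s.inf_le h.fr ⟨h1, h1'⟩)
  rw [hdr] at h3
  have e : d * (d⁻¹ * y * d) * d⁻¹ = y := by group
  rwa [e] at h3

/-- **(5)**: `[W_p, W_q]` lies on the line `p r` -/
theorem comm_mem_line (h : Wz T V z (m + 1)) (s : St V m p q r g) (hN1 : NOneAt V (m + 1) p) {f : G}
    (hf : f ∈ ws V q) {w : G} (hw : w ∈ ws V p) : f * w * f⁻¹ * w⁻¹ ∈ cj g V := by
  -- a mover exists
  obtain ⟨f0, hf0, u, hm⟩ : ∃ f0 ∈ ws V q, ∃ u, Mr V m p q r g f0 u := by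
    by_contra hcon
    push Not at hcon
    apply s.cr.ne
    intro a ha b hb
    by_contra hab
    obtain ⟨u, hu⟩ := exists_mr h s hb fun h0 => hab (h0 a ha).symm
    exact hcon b hb u hu
  have hsy := h.sy s.pp hN1
  have hfC : f ∈ centralizer ({p} : Set G) := h.le_cent s.cr.symm hf
  have hf0C : f0 ∈ centralizer ({p} : Set G) := h.le_cent s.cr.symm hf0
  have hν := hm.nu h hN1 hf0C
  have k := hm.mv h hN1 hf0C
  have hvΛ : vr h s ∈ {m : Mp h s.pp | Col V p (val m) ∧ val m ≠ p} := ⟨s.col, s.rp⟩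
  obtain ⟨φ, hφ⟩ := exists_tv' h s hN1 hf hfC
  have hfL : (⟨f, hfC⟩ : ↥(centralizer ({p} : Set G))) ∈ (lg V (m + 1) p).subgroupOf (centralizer ({p} : Set G)) :=
    mem_subgroupOf.2 (mem_lg s.cr hf)
  have hpt : ∀ y : G, Col V p y → f * y * f⁻¹ * y⁻¹ ∈ cj g V := by
    intro y hy
    by_cases hyp : y = p
    · subst hyp
      rw [mem_centralizer_singleton_iff.1 hfC, mul_inv_cancel_right, mul_inv_cancel]
      exact one_mem _
    obtain ⟨n, hn, e⟩ := hsy.tp_end hvΛ k hν hfL hφ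
      (w := NOne.mk y (h.fr.mem_ws_of_col hy)) ⟨hy, hyp⟩
    have h1 : (⟨f, hfC⟩ : ↥(centralizer ({p} : Set G))) • (NOne.mk y (h.fr.mem_ws_of_col hy) : Mp h s.pp) -
        NOne.mk y (h.fr.mem_ws_of_col hy) = φ (NOne.mk y (h.fr.mem_ws_of_col hy)) • vr h s + n := by
      rw [e]; abel
    have h2 := congrArg val h1
    rw [val_sub, val_smul, val_mk, val_add] at h2
    change f * y * f⁻¹ * y⁻¹ = _ at h2
    rw [h2]
    have hn' : val n ∈ cj g V := by
      rcases (mem_zpowers_iff_of_mul_self (h.fr.pt_sq s.pp)).mp (mem_sb.1 hn) with e1 | e1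
      · rw [e1]; exact one_mem _
      · rw [e1]; exact s.pg
    refine mul_mem ?_ hn'
    rcases zcases (φ (NOne.mk y (h.fr.mem_ws_of_col hy))) with e1 | e1
    · rw [e1, zero_smul, val_zero]; exact one_mem _
    · rw [e1, one_smul]; exact s.rg
  let D : Subgroup G :=
    { carrier := {w | w ∈ ws V p ∧ f * w * f⁻¹ * w⁻¹ ∈ cj g V}
      one_mem' := ⟨one_mem _, by simp⟩
      mul_mem' := by
        rintro a b ⟨ha, ha1⟩ ⟨hb, hb1⟩
        refine ⟨mul_mem ha hb, ?_⟩
        have hfn : f ∈ normalizer (ws V p : Set G) := centralizer_le_normalizer_ws V p hfC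
        have hb2 : f * b * f⁻¹ * b⁻¹ ∈ ws V p := mul_mem (conj_mem_of_normalizer le_rfl hfn hb) (inv_mem hb)
        have e : f * (a * b) * f⁻¹ * (a * b)⁻¹ = (f * a * f⁻¹) * ((f * b * f⁻¹ * b⁻¹) * a⁻¹) := by group
        rw [e, h.fr.ws_comm s.pp _ hb2 _ (inv_mem ha), ← mul_assoc]
        exact mul_mem ha1 hb1
      inv_mem' := by
        rintro a ⟨ha, ha1⟩
        rw [inv_eq_of_mul_eq_one_left (h.fr.ws_sq s.pp a ha)]
        exact ⟨ha, ha1⟩ }
  have hD : ws V p ≤ D := by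
    refine ws_le fun L hL => ?_
    obtain ⟨⟨l, rfl⟩, hpl⟩ := id hL
    intro y hy
    refine ⟨h.fr.line_le_ws hpl hy, ?_⟩
    by_cases hy1 : y = 1
    · rw [hy1]; simp
    · exact hpt y ⟨l, hpl, hy, s.p1, hy1⟩
  exact (hD hw).2

/-- `St` from a given geodesic -/
theorem St.of (h : Fr T V z) (hc : Cr V (m + 1) p q) (hp : Pth V m q r) (hpg : p ∈ cj g V) (hrg : r ∈ cj g V) :
    St V m p q r g := by
  have hrp : r ≠ p := by
    rintro rfl
    exact hc.ne (hc.min m (by omega) q r hp).symm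
  refine ⟨hc, hp, hpg, hrg, hc.path.left.ne_one, hp.right.ne_one, hrp, ?_⟩
  have h1 := h.ws_le_o2_of_pth hc.min m (by omega) q r hp
  have h2 : ws V q ≤ centralizer ((cj g V : Subgroup G) : Set G) := by
    intro a ha
    rw [mem_centralizer_iff]
    intro b hb
    exact (hc.min m (by omega) q r hp a ha b (h.line_le_ws hrg hb)).symm
  have h3 : centralizer ((cj g V : Subgroup G) : Set G) ≤ centralizer ({r} : Set G) := by
    intro c hc
    rw [mem_centralizer_singleton_iff]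
    exact (mem_centralizer_iff.mp hc r hrg).symm
  refine le_trans (le_inf h1 h2) (MinSimple.VModule.le_o2 inf_le_right
    ((MinSimple.VModule.o2_isPGroup _).to_le inf_le_left) ?_)
  refine le_normalizer_of_forall fun c hc a ha => ?_
  exact ⟨conj_mem_of_normalizer (MinSimple.VModule.le_normalizer_o2 _) (h3 hc) ha.1, conj_mem_cent hc ha.2⟩

/-- **(N1) is impossible** -/
theorem Wz.n1 {n : ℕ} (h : Wz T V z n) (hc : Cr V n p q) :
    ∃ p q, Cr V n p q ∧ ∃ f ∈ nn (ws V q) (kq V q), ∃ w ∈ ws V p, f * w ≠ w * f := by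
  by_contra hcon
  push Not at hcon
  have hN1 : ∀ p, NOneAt V n p := fun p q hc f hf w hw => (hcon q p hc.symm w hw f hf).symm
  obtain ⟨m, rfl⟩ := Nat.exists_eq_add_of_le' (le_trans one_le_two h.two)
  -- both lines
  have hline : ∀ p q r g r' g', St V m p q r g → St V m q p r' g' → ∀ w ∈ ws V p, ∀ f ∈ ws V q,
      w * f * w⁻¹ * f⁻¹ ∈ cj g V ∧ w * f * w⁻¹ * f⁻¹ ∈ cj g' V := by
    intro p q r g r' g' s s' w hw f hf
    refine ⟨?_, comm_mem_line h s' (hN1 q) hw hf⟩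
    have h1 := comm_mem_line h s (hN1 p) hf hw
    have e : w * f * w⁻¹ * f⁻¹ = (f * w * f⁻¹ * w⁻¹)⁻¹ := by group
    rw [e]
    exact inv_mem h1
  rcases Nat.lt_or_ge 2 (m + 1) with hm | hm
  · -- `n ≥ 3`
    obtain ⟨r, g, s⟩ := exists_st h.fr hc
    obtain ⟨r', g', s'⟩ := exists_st h.fr hc.symm
    apply hc.ne
    intro a ha b hb
    by_contra hab
    obtain ⟨h1, h2⟩ := hline p q r g r' g' s s' a ha b hb
    have hne : a * b * a⁻¹ * b⁻¹ ≠ 1 := fun e => hab (by
      rw [mul_inv_eq_one, mul_inv_eq_iff_eq_mul] at e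
      exact e)
    have hp2 : Pth V 2 p q := (Pth.of_col ⟨g, s.pg, h1, s.p1, hne⟩).step ⟨g', h2, s'.pg, hne, s'.p1⟩
    exact hab (hc.min 2 hm p q hp2 a ha b hb)
  · -- `n = 2`
    have hm1 : m = 1 := by have := h.two; omega
    subst hm1
    have hty : TwoMid.TyN T V z := by
      refine { fr := h.fr, mn := hc.min, n := ?_ }
      intro a r b har hrb x hx y hy
      by_cases hcom : Com V a b
      · rw [hcom x hx y hy, mul_inv_cancel_right, mul_inv_cancel]
        exact one_mem _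
      have hcab : Cr V (1 + 1) a b := ⟨(Pth.of_col har).step hrb, hcom, hc.min⟩
      obtain ⟨g, hag, hrg, ha1, hr1⟩ := id har
      obtain ⟨g', hrg', hbg', -, hb1⟩ := id hrb
      have s : St V 1 a b r g := St.of h.fr hcab (Pth.of_col hrb.symm) hag hrg
      have s' : St V 1 b a r g' := St.of h.fr hcab.symm (Pth.of_col har) hbg' hrg'
      obtain ⟨h1, h2⟩ := hline a b r g r g' s s' x hx y hy
      set d := x * y * x⁻¹ * y⁻¹ with hd
      by_cases hd1 : d = 1
      · rw [hd1]; exact one_mem _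
      by_cases hdr : d = r
      · rw [hdr]; exact mem_zpowers r
      -- the two lines coincide
      exfalso
      obtain ⟨k, -, -, hf⟩ := h.fr.flag hrg' hr1
      obtain ⟨k', -, -, hf'⟩ := h.fr.flag hrg hr1
      have hbg : b ∈ cj g V := by
        rcases hf.ln.four hrg' h2 hr1 hd1 (Ne.symm hdr) hbg' with e | e | e | e
        · exact absurd e hb1
        · rw [e]; exact hrg
        · rw [e]; exact h1
        · rw [e]; exact mul_mem hrg h1
      exact hcom (hc.min 1 (by omega) a b (Pth.of_col ⟨g, hag, hbg, ha1, hb1⟩))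
    obtain ⟨r, h1, h2⟩ := (show Cr V 2 p q from hc).path.exists_mid
    exact hc.ne (TypeN.com_of_tyN hty h1 h2)

end main

end Cfsg.Agent.Omega.NO3S.WZero

end
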