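import Cfsg.Agent.Mrg.Omega.NO3S.TwoFar.FullNode
import Cfsg.Agent.Mrg.Omega.NO3S.WZero.EndPlug
import Cfsg.Agent.Mrg.Omega.NO3S.WZero.Final


/-!
# The world W0 is void: the sockets `WTwo K`, `NTwo K`, `FullTwo K` from (ML) (#21024)

* `no_cr` : `Fr T V z`, K-group point centralisers, `n ≥ 2`: no critical pair at distance `n`;
* `nnLe`, `wTwo`, `nTwo`, `fullTwo`.
-/

set_option autoImplicit false

namespace Cfsg.Agent.Omega.NO3S.WZero

open Subgroup Cfsg Cfsg.Agent.ZN Cfsg.Agent.MinSimple.Geo Cfsg.Agent.Omega.CaseL Cfsg.Agent.Omega.NO3S.TwoOne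
open Cfsg.Agent.Omega.NO3S Cfsg.Agent.Omega.NO3S.Pt Cfsg.Agent.Omega.Frame
open Cfsg.Agent.Omega.NO3S.Dual (nn mem_nn)
open Cfsg.Agent.Omega.ML.Final (MLK)

universe u

/-- **no critical pair at distance `n ≥ 2`** -/
theorem no_cr (hML : MLK.{u, u}) {G : Type u} [Group G] [Finite G] {T V : Subgroup G} {z : G} (h : Fr T V z)
    (hK : ∀ p : G, Col V p p → IsKGroup (centralizer ({p} : Set G))) {n : ℕ} (hn : 2 ≤ n) {p q : G}
    (hc : Cr V n p q) : False := by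
  have hw := wz hML h hK hn
  obtain ⟨p', q', hcr, f, hf, w, hw', hne⟩ := hw.n1 hc
  exact hne (hw.cent hcr hf hw')

theorem nnLe (hML : MLK.{u, u}) : NNLe.{u} := fun _ _ _ _ _ _ h hK _ _ _ hn hc => (no_cr hML h hK hn hc).elim

variable {K : Cls.{u}}

/-- **the socket `WTwo K`** -/
theorem wTwo (hML : MLK.{u, u}) : WTwo K := wTwo_of (nnLe hML)

/-- **the socket `NTwo K`** -/
theorem nTwo (hML : MLK.{u, u}) : TwoFar.NTwo K := nTwo_of (nnLe hML)

/-- **the socket `FullTwo K`** from (F1) -/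
theorem fullTwo (hML : MLK.{u, u}) (h1 : TwoOne.FOneP K) : NO3S.FullTwo K := fullTwo_of h1 (nnLe hML)

end Cfsg.Agent.Omega.NO3S.WZero
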